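import Cfsg.Agent.H132.S5.Pairs
import Cfsg.Agent.H533.T5.SporDefs_m3
import Cfsg.Agent.H28.T5Ok
import Cfsg.Agent.S0033
import Cfsg.Agent.H583.ColApi
import Cfsg.Agent.H390.AltAux
import Cfsg.Agent.H55.OutGen
import Cfsg.Prelude.Def_Classification2
import Cfsg.Agent.FastGrp
import Cfsg.Agent.Prune
set_option linter.all false

section
prune_inst 0x7ffdfffb9ff8addfffff7ffffff7dffff9fddfffffdffbfbfffdfbffefdf236ffbe7fbbffff45affdef7e2be30b87853ff7eceffef6bdc7ffffd5ff45ffbee5ff7ffbfad71f6bc3e1ffe6ffffbf17fee7f3fffffffffffffffffffffffffffffffffffffffff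

-- part: H132/S5/Tools
section
set_option linter.all false
open scoped Cfsg.Agent.FastGrp

/-!
# S2274: reduction tools for the strong pair predicate

* `spair_of_quasisimple`, `spair_of_simple` : `c`, `d` of order `p` normalise and do not centralise the quasisimple
  (simple) subgroup `L ≤ S`;
* `SRow.pair` : the strong row of `K` gives pairs in `K`;
* `spair_of_embedding`, `spair_of_index` : simple subgroups meeting the classes;
* `apair_of_isConj_zpow` : part (a) if a conjugate of a power of `d` is `c`.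
-/

set_option autoImplicit false

universe u

namespace Cfsg.Agent.H132.S5

open Cfsg.Agent.H533.T5 Cfsg.Agent.H957.T5M Cfsg.Agent.H106.MB Cfsg.Agent.H106.MT

section comp

variable {G : Type*} [Group G] {p : ℕ}

/-- **Components**: `c`, `d` of order `p` normalise and do not centralise the quasisimple group
`L ≤ S`. -/
theorem spair_of_quasisimple (hp : p.Prime) {S L : Subgroup G} (hLS : L ≤ S)
    (hq : IsQuasisimple L) (hrow : SRow p (L ⧸ Subgroup.center L)) {c d : G}
    (hc : orderOf c = p) (hd : orderOf d = p)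
    (hcL : c ∈ Subgroup.normalizer (L : Set G)) (hdL : d ∈ Subgroup.normalizer (L : Set G))
    (hc' : ∃ r ∈ L, ¬ Commute r c) (hd' : ∃ r ∈ L, ¬ Commute r d) : SPair p S c d := by
  have hperf : commutator L = ⊤ := isPerfect_iff.1 hq.1
  let M : Subgroup G := Subgroup.normalizer (L : Set G)
  let φ : M →* MulAut (L ⧸ Subgroup.center L) := (quotAut L).comp L.normalizerMonoidHom
  have hord : ∀ (x : G) (hx : x ∈ M), orderOf x = p → (∃ r ∈ L, ¬ Commute r x) →
      orderOf (φ ⟨x, hx⟩) = p := by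
    intro x hx hxp hne
    have h1 : orderOf (φ ⟨x, hx⟩) ∣ p := by
      rw [← hxp, ← Subgroup.orderOf_mk x hx]
      exact orderOf_map_dvd _ _
    rcases (Nat.dvd_prime hp).1 h1 with h2 | h2
    · exfalso
      rw [orderOf_eq_one_iff] at h2
      have h3 : L.normalizerMonoidHom ⟨x, hx⟩ = 1 := by
        refine aut_eq_one_of_center hperf _ fun r => ?_
        have h4 := congrArg (fun f : MulAut (L ⧸ Subgroup.center L) =>
          f (r : L ⧸ Subgroup.center L)) h2
        change ((L.normalizerMonoidHom ⟨x, hx⟩ r : L) : L ⧸ Subgroup.center L) = (r : L ⧸ _) at h4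
        rw [QuotientGroup.eq] at h4
        have h5 := Subgroup.inv_mem _ h4
        rw [mul_inv_rev, inv_inv] at h5
        have h6 := (inferInstance : (Subgroup.center L).Normal).conj_mem _ h5 r
        have h7 : r * (r⁻¹ * L.normalizerMonoidHom ⟨x, hx⟩ r) * r⁻¹ =
            L.normalizerMonoidHom ⟨x, hx⟩ r * r⁻¹ := by group
        rw [h7] at h6
        have h8 := Subgroup.inv_mem _ h6
        rw [mul_inv_rev, inv_inv] at h8
        exact h8
      obtain ⟨r, hr, hrx⟩ := hne
      apply hrx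
      have h4 := congrArg (fun f : MulAut L => ((f ⟨r, hr⟩ : L) : G)) h3
      change x * r * x⁻¹ = r at h4
      exact (mul_inv_eq_iff_eq_mul.1 h4).symm
    · exact h2
  have h1 := hrow (φ ⟨c, hcL⟩) (φ ⟨d, hdL⟩) (hord c hcL hc hc') (hord d hdL hd hd')
  refine SPair.of_section hp (M := M) (c := ⟨c, hcL⟩) (d := ⟨d, hdL⟩) φ ?_ h1
  rintro _ ⟨q, rfl⟩
  obtain ⟨l, rfl⟩ := QuotientGroup.mk_surjective q
  have hlM : (l : G) ∈ M := Subgroup.le_normalizer l.2
  refine ⟨⟨l, hlM⟩, ?_, ?_⟩
  · exact hLS l.2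
  · ext x
    obtain ⟨y, rfl⟩ := QuotientGroup.mk_surjective x
    change ((L.normalizerMonoidHom ⟨(l : G), hlM⟩ y : L) : L ⧸ Subgroup.center L) = _
    rw [MulAut.conj_apply]
    rfl

/-- The same for a simple `L`. -/
theorem spair_of_simple (hp : p.Prime) {S L : Subgroup G} (hLS : L ≤ S)
    (hrow : SRow p L) {c d : G}
    (hc : orderOf c = p) (hd : orderOf d = p)
    (hcL : c ∈ Subgroup.normalizer (L : Set G)) (hdL : d ∈ Subgroup.normalizer (L : Set G))
    (hc' : ∃ r ∈ L, ¬ Commute r c) (hd' : ∃ r ∈ L, ¬ Commute r d) : SPair p S c d := by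
  let M : Subgroup G := Subgroup.normalizer (L : Set G)
  let φ : M →* MulAut L := L.normalizerMonoidHom
  have hord : ∀ (x : G) (hx : x ∈ M), orderOf x = p → (∃ r ∈ L, ¬ Commute r x) →
      orderOf (φ ⟨x, hx⟩) = p := by
    intro x hx hxp hne
    have h1 : orderOf (φ ⟨x, hx⟩) ∣ p := by
      rw [← hxp, ← Subgroup.orderOf_mk x hx]
      exact orderOf_map_dvd _ _
    rcases (Nat.dvd_prime hp).1 h1 with h2 | h2
    · exfalso
      rw [orderOf_eq_one_iff] at h2
      obtain ⟨r, hr, hrx⟩ := hne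
      apply hrx
      have h4 := congrArg (fun f : MulAut L => ((f ⟨r, hr⟩ : L) : G)) h2
      change x * r * x⁻¹ = r at h4
      exact (mul_inv_eq_iff_eq_mul.1 h4).symm
    · exact h2
  have h1 := hrow (φ ⟨c, hcL⟩) (φ ⟨d, hdL⟩) (hord c hcL hc hc') (hord d hdL hd hd')
  refine SPair.of_section hp (M := M) (c := ⟨c, hcL⟩) (d := ⟨d, hdL⟩) φ ?_ h1
  rintro _ ⟨l, rfl⟩
  have hlM : (l : G) ∈ M := Subgroup.le_normalizer l.2
  refine ⟨⟨l, hlM⟩, hLS l.2, ?_⟩
  ext x
  rfl

end comp

section pairs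

variable {p : ℕ}

/-- The strong row of `K` gives pairs in `K`. -/
theorem _root_.Cfsg.Agent.H533.T5.SRow.pair (hp : p.Prime) {K : Type*} [Group K] [IsSimpleGroup K]
    (hna : ¬ IsMulCommutative K) (h : SRow p K) {a b : K} (ha : orderOf a = p)
    (hb : orderOf b = p) : SPair p (⊤ : Subgroup K) a b := by
  have hinj := conj_injective_of_simple (S := K) hna
  have h1 := h (MulAut.conj a) (MulAut.conj b) (by rw [orderOf_injective _ hinj, ha])
    (by rw [orderOf_injective _ hinj, hb])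
  exact h1.of_hom hp (MulAut.conj : K →* MulAut K) (by rw [← MonoidHom.range_eq_map])

variable {S : Type*} [Group S]

/-- pairs through an embedding -/
theorem spair_of_embedding' {K : Type*} [Group K] (f : K →* S) (hf : Function.Injective f)
    {x y : S} {a b : K} {s t : S} (h : SPair p (⊤ : Subgroup K) a b) (ha : f a = s * x * s⁻¹)
    (hb : f b = t * y * t⁻¹) : SPair p (⊤ : Subgroup S) x y := by
  have h1 := h.of_injective f hf
  rw [ha, hb] at h1
  exact ((h1.mono le_top).conj_left (Subgroup.mem_top _)).conj_right (Subgroup.mem_top _)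

/-- **Subgroups meeting the classes**: `K` simple with a strong row embedded in `S`, and `x`, `y`
conjugate to elements of `K`. -/
theorem spair_of_embedding (hp : p.Prime) {K : Type*} [Group K] [IsSimpleGroup K]
    (hna : ¬ IsMulCommutative K)
    (h : SRow p K) (f : K →* S) (hf : Function.Injective f) {x y : S} (hx : orderOf x = p)
    (hy : orderOf y = p) (hxK : ∃ (a : K) (s : S), f a = s * x * s⁻¹)
    (hyK : ∃ (b : K) (s : S), f b = s * y * s⁻¹) : SPair p (⊤ : Subgroup S) x y := by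
  obtain ⟨a, s, ha⟩ := hxK
  obtain ⟨b, t, hb⟩ := hyK
  have ha' : orderOf a = p := by rw [← orderOf_injective f hf, ha, orderOf_cj, hx]
  have hb' : orderOf b = p := by rw [← orderOf_injective f hf, hb, orderOf_cj, hy]
  exact spair_of_embedding' f hf (h.pair hp hna ha' hb') ha hb

/-- A subgroup `T` of index prime to `p` and a section `T → K` with `p`-kernel-free ... : every element of order `p` of
`S` has a conjugate in `T`. -/
theorem exists_conj_mem_of_index [Finite S] [Fact p.Prime] {T : Subgroup S} (hT : ¬ p ∣ T.index)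
    {z : S} (hz : orderOf z = p) : ∃ g : S, g * z * g⁻¹ ∈ T := by
  obtain ⟨Q⟩ : Nonempty (Sylow p T) := inferInstance
  let Q' : Subgroup S := (Q : Subgroup T).map T.subtype
  have hQ' : IsPGroup p Q' := Q.isPGroup'.map _
  have hidx : ¬ p ∣ Q'.index := by
    have h1 : Q'.index = (Q : Subgroup T).index * T.index := Subgroup.index_map_subtype _
    rw [h1]
    intro hdvd
    rcases (Nat.Prime.dvd_mul Fact.out).1 hdvd with h2 | h2
    · exact Q.not_dvd_index h2
    · exact hT h2
  let P : Sylow p S := hQ'.toSylow hidx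
  obtain ⟨g, hg⟩ := exists_conj_mem_sylow P hz
  obtain ⟨t, -, ht⟩ := hg
  exact ⟨g, by rw [← ht]; exact t.2⟩

/-- A simple subgroup of index prime to `p`. -/
theorem spair_of_index [Finite S] [Fact p.Prime] {K : Type*} [Group K] [IsSimpleGroup K]
    (hna : ¬ IsMulCommutative K) (h : SRow p K) (T : Subgroup S) (hT : ¬ p ∣ T.index)
    (e : T ≃* K) {x y : S} (hx : orderOf x = p) (hy : orderOf y = p) :
    SPair p (⊤ : Subgroup S) x y := by
  have hmem : ∀ z : S, orderOf z = p → ∃ (a : K) (s : S),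
      (T.subtype.comp e.symm.toMonoidHom) a = s * z * s⁻¹ := by
    intro z hz
    obtain ⟨g, hg⟩ := exists_conj_mem_of_index hT hz
    exact ⟨e ⟨_, hg⟩, g, by simp⟩
  exact spair_of_embedding Fact.out hna h (T.subtype.comp e.symm.toMonoidHom)
    (T.subtype_injective.comp e.symm.injective) hx hy (hmem x hx) (hmem y hy)

/-- **Sections of index prime to `p`**: `T` has index prime to `p` in `S`, `φ : T → K` is surjective, with a kernel of
order prime to `p`, and `K` is simple nonabelian with a strong row. -/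
theorem spair_of_section_index [Finite S] [Fact p.Prime] {K : Type*} [Group K] [IsSimpleGroup K]
    (hna : ¬ IsMulCommutative K) (h : SRow p K) (T : Subgroup S) (hT : ¬ p ∣ T.index)
    (φ : T →* K) (hφ : Function.Surjective φ) (hker : ¬ p ∣ Nat.card φ.ker) {x y : S}
    (hx : orderOf x = p) (hy : orderOf y = p) : SPair p (⊤ : Subgroup S) x y := by
  have hp : p.Prime := Fact.out
  have hord : ∀ (t : T), orderOf t = p → orderOf (φ t) = p := by
    intro t ht
    have h1 : orderOf (φ t) ∣ p := by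
      rw [← ht]; exact orderOf_map_dvd _ _
    rcases (Nat.dvd_prime hp).1 h1 with h2 | h2
    · exfalso
      rw [orderOf_eq_one_iff] at h2
      apply hker
      have h3 : t ∈ φ.ker := h2
      have h4 : orderOf (⟨t, h3⟩ : φ.ker) = p := by rw [Subgroup.orderOf_mk]; exact ht
      rw [← h4]
      exact orderOf_dvd_natCard _
    · exact h2
  obtain ⟨s, hs⟩ := exists_conj_mem_of_index hT hx
  obtain ⟨t, ht⟩ := exists_conj_mem_of_index hT hy
  refine SPair.conj_left (s := s) (Subgroup.mem_top _) (SPair.conj_right (s := t) (Subgroup.mem_top _) ?_)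
  have h1 := h.pair hp hna (hord ⟨_, hs⟩ (by rw [Subgroup.orderOf_mk, orderOf_cj, hx]))
    (hord ⟨_, ht⟩ (by rw [Subgroup.orderOf_mk, orderOf_cj, hy]))
  refine SPair.of_section hp (M := T) (c := ⟨_, hs⟩) (d := ⟨_, ht⟩) φ ?_ h1
  intro k _
  obtain ⟨t, rfl⟩ := hφ k
  exact ⟨t, Subgroup.mem_top _, rfl⟩

end pairs

section cyc

variable {p : ℕ} {S : Type u} [Group S] [Finite S]

/-- Part (a) if some power of some conjugate of `y` is `x`. -/
theorem apair_of_isConj_zpow (hRS : RSHyp.{u} p) (hp : p.Prime) [IsSimpleGroup S]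
    (hna : ¬ IsMulCommutative S) {x y : S} (hx : orderOf x = p) {s : S} {j : ℤ}
    (h : (s * y * s⁻¹) ^ j = x) : APair (⊤ : Subgroup S) x y := by
  refine APair.of_aligned (R := ⊤) hRS le_rfl hx (fun r _ => Subgroup.mem_top _)
    (Subgroup.mem_top s) j (h := 1) (Commute.one_right _) (fun r _ => Commute.one_right _)
    (by rw [h, mul_one]) (not_solvable_simple hna ?_)
  rintro rfl
  rw [orderOf_one] at hx
  exact hp.one_lt.ne hx

/-- Part (a) for cyclic Sylow subgroups. -/
theorem apair_of_cyclic (hRS : RSHyp.{u} p) [Fact p.Prime] [IsSimpleGroup S]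
    (hna : ¬ IsMulCommutative S) (P : Sylow p S) (hP : IsCyclic ↥(P : Subgroup S)) {x y : S}
    (hx : orderOf x = p) (hy : orderOf y = p) : APair (⊤ : Subgroup S) x y := by
  obtain ⟨s, j, h⟩ := exists_conj_of_cyclic P hP hx hy
  exact apair_of_isConj_zpow hRS Fact.out hna hx h

/-- Part (b) for conjugate elements. -/
theorem bpair_of_isConj (hAA : AAHyp.{u} p) (hp : p.Prime) [IsSimpleGroup S]
    (hna : ¬ IsMulCommutative S) {x y : S} (hx : orderOf x = p) (h : IsConj x y) :
    BPair p (⊤ : Subgroup S) x y := by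
  obtain ⟨s, hs⟩ := isConj_iff.1 h.symm
  refine BPair.of_aligned (R := ⊤) hAA le_rfl hx (fun r _ => Subgroup.mem_top _)
    (Subgroup.mem_top s) (h := 1) (Commute.one_right _) (fun r _ => Commute.one_right _)
    ⟨0, by simp⟩ (by rw [hs, mul_one]) (not_solvable_simple hna ?_)
  rintro rfl
  rw [orderOf_one] at hx
  exact hp.one_lt.ne hx

end cyc

end Cfsg.Agent.H132.S5
end

-- part: H132/S5/Main
section
prune_inst 0x22000000000000000000000000000000000000000000000000000000000000000000000000000000000000000000000000000000000000000000000000000000000000000000000000000000000000000000000000000000000000000000000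
set_option linter.all false
open scoped Cfsg.Agent.FastGrp

-- part: H132/S5/Outer
section
/-!
# S2274: strong rows, pairs with outer automorphisms

* `conj_of_coprime` (copied from H28/T5RankOne);
* `spair_io` : inner against outer; `bpair_coset` : `p` prime to `|S|`; `bpair_outer` : outer against outer;
* `srow_of`, `srow_of_ok` : the strong row from the pairs of elements of `S`.
-/

set_option autoImplicit false

universe u

namespace Cfsg.Agent.H132.S5

open Subgroup Cfsg.Agent.H533.T5 Cfsg.Agent.H957.T5M Cfsg.Agent.H106.MB Cfsg.Agent.H106.MT Cfsg.Agent.H28.T5Mid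
  Cfsg.Agent.H28.T5Ok

/-- Elements of order `p` of a coset of a normal `p'`-subgroup are conjugate. -/
theorem conj_of_coprime {A : Type*} [Group A] [Finite A] {p : ℕ} [hpf : Fact p.Prime] (I : Subgroup A) [hI : I.Normal]
    (hpI : ¬ p ∣ Nat.card I) {x φ : A} (hx : x ^ p = 1) (hφ : orderOf φ = p) (h : x * φ⁻¹ ∈ I) :
    ∃ i ∈ I, x = i * φ * i⁻¹ := by
  have hp : p.Prime := hpf.out
  have hφp : φ ^ p = 1 := by rw [← hφ, pow_orderOf_eq_one]
  obtain ⟨H, hH⟩ : ∃ H, H = I ⊔ zpowers φ := ⟨_, rfl⟩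
  have hIH : I ≤ H := by rw [hH]; exact le_sup_left
  have hφH : φ ∈ H := by
    rw [hH]
    exact (le_sup_right : zpowers φ ≤ I ⊔ zpowers φ) (mem_zpowers φ)
  have hxH : x ∈ H := by
    have h1 : x = x * φ⁻¹ * φ := by group
    rw [h1]
    exact mul_mem (hIH h) hφH
  -- the trivial intersections
  have htriv : ∀ z ∈ I, (∃ k : ℕ, z ^ p ^ k = 1) → z = 1 := by
    rintro z hz ⟨k, hk⟩
    have h1 : orderOf z ∣ p ^ k := orderOf_dvd_of_pow_eq_one hk
    have h2 : orderOf z ∣ Nat.card I := by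
      have h3 : orderOf (⟨z, hz⟩ : ↥I) ∣ Nat.card I := _root_.orderOf_dvd_natCard _
      rwa [Subgroup.orderOf_mk] at h3
    have h3 : Nat.Coprime (p ^ k) (Nat.card I) := ((Nat.Prime.coprime_iff_not_dvd hp).2 hpI).pow_left k
    exact orderOf_eq_one_iff.1 (Nat.dvd_one.1 (h3 ▸ Nat.dvd_gcd h1 h2))
  -- a Sylow subgroup
  have hz : ∀ y : A, y ^ p = 1 → ∀ hy : y ∈ H, IsPGroup p ↥(zpowers (⟨y, hy⟩ : ↥H)) := by
    intro y hyp hy
    have h1 : (⟨y, hy⟩ : ↥H) ^ p = 1 := Subtype.ext hyp
    rcases (Nat.dvd_prime hp).1 (orderOf_dvd_of_pow_eq_one h1) with h2 | h2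
    · exact IsPGroup.of_card (n := 0) (by rw [Nat.card_zpowers, h2, pow_zero])
    · exact IsPGroup.of_card (n := 1) (by rw [Nat.card_zpowers, h2, pow_one])
  obtain ⟨P, hP⟩ := (hz φ hφp hφH).exists_le_sylow
  obtain ⟨R, hR⟩ := (hz x hx hxH).exists_le_sylow
  -- elements of `H`
  have helt : ∀ y ∈ H, ∃ i ∈ I, ∃ k : ℤ, y = i * φ ^ k := by
    intro y hy
    rw [hH] at hy
    obtain ⟨i, hi, w, hw, rfl⟩ := Subgroup.mem_sup_of_normal_left.1 hy
    obtain ⟨k, rfl⟩ := mem_zpowers_iff.1 hw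
    exact ⟨i, hi, k, rfl⟩
  -- `P = ⟨φ⟩`
  have hPφ : ∀ y ∈ (P : Subgroup ↥H), ∃ k : ℤ, (y : A) = φ ^ k := by
    intro y hy
    obtain ⟨i, hi, k, hk⟩ := helt y y.2
    have h1 : (⟨i, hIH hi⟩ : ↥H) ∈ (P : Subgroup ↥H) := by
      have h2 : (⟨i, hIH hi⟩ : ↥H) = y * (⟨φ, hφH⟩ : ↥H) ^ (-k) := Subtype.ext (by
        push_cast
        rw [hk]
        group)
      rw [h2]
      exact mul_mem hy (Subgroup.zpow_mem _ (hP (mem_zpowers _)) _)
    obtain ⟨k', hk'⟩ := P.2 ⟨_, h1⟩
    have h2 := htriv i hi ⟨k', by simpa only [_root_.SubmonoidClass.mk_pow, _root_.OneMemClass.coe_one] using congrArg (fun z : ↥(P : Subgroup ↥H) => ((z : ↥H) : A)) hk'⟩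
    exact ⟨k, by rw [hk, h2, one_mul]⟩
  obtain ⟨g, hg⟩ := MulAction.exists_smul_eq ↥H R P
  have h1 : MulAut.conj g ⟨x, hxH⟩ ∈ ((g • R : Sylow p ↥H) : Subgroup ↥H) :=
    Subgroup.smul_mem_pointwise_smul _ (MulAut.conj g) (R : Subgroup ↥H) (hR (mem_zpowers _))
  rw [hg] at h1
  obtain ⟨k, hk⟩ := hPφ _ h1
  have hk' : (g : A) * x * (g : A)⁻¹ = φ ^ k := by simpa only [MulAut.conj_apply, _root_.Subgroup.coe_mul, _root_.InvMemClass.coe_inv] using hk
  obtain ⟨i, hi, l, hl⟩ := helt g g.2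
  obtain ⟨i', hi'⟩ : ∃ i', i' = (φ ^ l)⁻¹ * i⁻¹ * φ ^ l := ⟨_, rfl⟩
  have hi'I : i' ∈ I := by
    rw [hi']
    have := hI.conj_mem _ (I.inv_mem hi) (φ ^ l)⁻¹
    rwa [inv_inv] at this
  have h2 : x = i' * φ ^ k * i'⁻¹ := by
    have h3 : x = (g : A)⁻¹ * (g * x * (g : A)⁻¹) * g := by group
    rw [h3, hk', hl, hi']
    group
  have h3 : φ ^ (k - 1) = 1 := by
    refine htriv _ ?_ ⟨1, by rw [pow_one, ← zpow_natCast, ← zpow_mul, mul_comm, zpow_mul, zpow_natCast, hφp, one_zpow]⟩
    have h4 : φ ^ (k - 1) = i'⁻¹ * (x * φ⁻¹) * (φ * i' * φ⁻¹) := by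
      rw [h2]
      group
    rw [h4]
    exact mul_mem (mul_mem (I.inv_mem hi'I) h) (hI.conj_mem _ hi'I φ)
  have h4 : φ ^ k = φ := by
    have h5 : φ ^ k = φ ^ (k - 1) * φ := by group
    rw [h5, h3, one_mul]
  exact ⟨i', hi'I, by rw [← h4]; exact h2⟩

section coset

variable {S : Type u} [Group S] [Finite S] {p : ℕ} [hpf : Fact p.Prime]

/-- `s * (α s)⁻¹` -/
def kset (α : MulAut S) : Set S := Set.range fun s => s * (α s)⁻¹

omit [Finite S] in
theorem conj_mul_mul (α : MulAut S) (s : S) :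
    MulAut.conj s * α * (MulAut.conj s)⁻¹ = MulAut.conj (s * (α s)⁻¹) * α := by
  ext x
  simp only [MulAut.mul_apply, MulAut.conj_apply, mul_assoc, _root_.MulAut.inv_apply, _root_.MulAut.conj_symm_apply, _root_.map_mul, _root_.map_inv]

omit [Finite S] in
/-- the size of `kset` depends only on the fixed points -/
theorem ncard_kset {α β : MulAut S} (h : ∀ s, α s = s ↔ β s = s) : (kset α).ncard = (kset β).ncard := by
  classical
  have key : ∀ γ : MulAut S, (∀ s, γ s = s ↔ β s = s) → (kset γ).ncard = Nat.card (S ⧸ (β.toMonoidHom.eqLocus (MonoidHom.id S))) := by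
    intro γ hγ
    set F := β.toMonoidHom.eqLocus (MonoidHom.id S) with hF
    have hFm : ∀ s, s ∈ F ↔ γ s = s := fun s => (hγ s).symm
    have h1 : Function.Injective (fun ω : S ⧸ F => ω.out * (γ ω.out)⁻¹) := by
      intro ω ω' hω
      have h2 : ω.out * (γ ω.out)⁻¹ = ω'.out * (γ ω'.out)⁻¹ := hω
      have h3 : ω.out⁻¹ * ω'.out ∈ F := by
        rw [hFm, map_mul, map_inv]
        calc (γ ω.out)⁻¹ * γ ω'.out = ω.out⁻¹ * (ω.out * (γ ω.out)⁻¹) * γ ω'.out := by group
          _ = ω.out⁻¹ * (ω'.out * (γ ω'.out)⁻¹) * γ ω'.out := by rw [h2]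
          _ = _ := by group
      rw [← QuotientGroup.out_eq' ω, ← QuotientGroup.out_eq' ω']
      exact QuotientGroup.eq.2 h3
    have h2 : kset γ = Set.range (fun ω : S ⧸ F => ω.out * (γ ω.out)⁻¹) := by
      apply Set.Subset.antisymm
      · rintro _ ⟨s, rfl⟩
        refine ⟨(s : S ⧸ F), ?_⟩
        have h3 : ((s : S ⧸ F)).out⁻¹ * s ∈ F := QuotientGroup.eq.1 (QuotientGroup.out_eq' (s : S ⧸ F))
        rw [hFm, map_mul, map_inv] at h3
        have h4 : γ s = γ (s : S ⧸ F).out * ((s : S ⧸ F).out⁻¹ * s) := by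
          rw [← h3]; group
        change (s : S ⧸ F).out * (γ (s : S ⧸ F).out)⁻¹ = s * (γ s)⁻¹
        rw [h4]
        group
      · rintro _ ⟨ω, rfl⟩
        exact ⟨ω.out, rfl⟩
    rw [h2, ← Set.image_univ, Set.ncard_image_of_injective _ h1, Set.ncard_univ]
  rw [key α h, key β fun _ => Iff.rfl]

/-- **`p` prime to `|S|`**: the products of the conjugates of `c` and `c ^ m` are not all `p`-elements. -/
theorem bpair_coset [IsSimpleGroup S] (hna : ¬ IsMulCommutative S) (hS : ¬ p ∣ Nat.card S) {c : MulAut S}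
    (hc : orderOf c = p) {m : ℕ} (hm : m.Coprime p) : BPair p (Inn S) c (c ^ m) := by
  have hp : p.Prime := hpf.out
  by_contra hcon
  have hI := conj_range_normal (S := S)
  have hinj := conj_injective_of_simple (S := S) hna
  have hcp : c ^ p = 1 := by rw [← hc, pow_orderOf_eq_one]
  have hIc : ¬ p ∣ Nat.card ↥(Inn S) := by
    rw [← Nat.card_congr (MonoidHom.ofInjective hinj).toEquiv]; exact hS
  have hcon' : ∀ g ∈ Inn S, ∃ k : ℕ, (c * (g * c ^ m * g⁻¹)) ^ p ^ k = 1 := by
    intro g hg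
    by_contra h
    push Not at h
    exact hcon ⟨g, hg, h⟩
  -- `p`-elements of `Inn S` are trivial
  have htriv : ∀ z ∈ Inn S, (∃ k : ℕ, z ^ p ^ k = 1) → z = 1 := by
    rintro z hz ⟨k, hk⟩
    have h1 : orderOf z ∣ p ^ k := orderOf_dvd_of_pow_eq_one hk
    have h2 : orderOf z ∣ Nat.card ↥(Inn S) := by
      have h3 : orderOf (⟨z, hz⟩ : ↥(Inn S)) ∣ Nat.card ↥(Inn S) := _root_.orderOf_dvd_natCard _
      rwa [Subgroup.orderOf_mk] at h3
    have h3 : Nat.Coprime (p ^ k) (Nat.card ↥(Inn S)) := ((Nat.Prime.coprime_iff_not_dvd hp).2 hIc).pow_left k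
    exact orderOf_eq_one_iff.1 (Nat.dvd_one.1 (h3 ▸ Nat.dvd_gcd h1 h2))
  have hc1 : c ≠ 1 := by
    rintro rfl
    rw [orderOf_one] at hc
    exact hp.one_lt.ne hc
  by_cases hm1 : p ∣ 1 + m
  · -- `c ^ m = c⁻¹`
    have h1 : c ^ m = c⁻¹ := by
      obtain ⟨k, hk⟩ := hm1
      rw [eq_inv_iff_mul_eq_one, ← pow_succ, add_comm m 1, hk, pow_mul, hcp, one_pow]
    apply hc1
    have h2 : c ∈ Subgroup.centralizer ((Inn S : Subgroup (MulAut S)) : Set (MulAut S)) := by
      rw [Subgroup.mem_centralizer_iff]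
      intro g hg
      obtain ⟨k, hk⟩ := hcon' g hg
      have h3 : c * (g * c ^ m * g⁻¹) ∈ Inn S := by
        rw [h1]
        have h4 : c * (g * c⁻¹ * g⁻¹) = (c * g * c⁻¹) * g⁻¹ := by group
        rw [h4]
        exact mul_mem (hI.conj_mem _ hg c) (inv_mem hg)
      have h4 := htriv _ h3 ⟨k, hk⟩
      rw [h1] at h4
      have h5 : c * g * c⁻¹ = g := by
        have h6 : c * (g * c⁻¹ * g⁻¹) = (c * g * c⁻¹) * g⁻¹ := by group
        rw [h6] at h4
        exact mul_inv_eq_one.1 h4
      exact (mul_inv_eq_iff_eq_mul.1 h5).symm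
    rw [centralizer_conj_range (center_eq_bot_of_simple hna), Subgroup.mem_bot] at h2
    exact h2
  · obtain ⟨β, hβ⟩ : ∃ β, β = c ^ (1 + m) := ⟨_, rfl⟩
    have hβ1 : β ≠ 1 := by
      intro h1
      rw [hβ] at h1
      exact hm1 (hc ▸ orderOf_dvd_of_pow_eq_one h1)
    have hβp : orderOf β = p := by
      refine orderOf_eq_prime ?_ hβ1
      rw [hβ, ← pow_mul, mul_comm, pow_mul, hcp, one_pow]
    have hfix : ∀ s, c s = s ↔ β s = s := fun s => by
      rw [hβ]
      exact (fix_pow_iff' hcp (((Nat.Prime.coprime_iff_not_dvd hp).2 hm1).symm) s).symm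
    have hfixm : ∀ s, (c ^ m) s = s ↔ β s = s := fun s => (fix_pow_iff' hcp hm s).trans (hfix s)
    -- the products
    have hprod : ∀ a b : S, a * (c a)⁻¹ * c (b * ((c ^ m) b)⁻¹) ∈ kset β := by
      intro a b
      obtain ⟨k, hk⟩ := hcon' ((MulAut.conj a)⁻¹ * MulAut.conj b) (mul_mem (inv_mem ⟨a, rfl⟩) ⟨b, rfl⟩)
      obtain ⟨z, hz⟩ : ∃ z, z = MulAut.conj a * (c * ((MulAut.conj a)⁻¹ * MulAut.conj b * c ^ m *
        ((MulAut.conj a)⁻¹ * MulAut.conj b)⁻¹)) * (MulAut.conj a)⁻¹ := ⟨_, rfl⟩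
      have hzk : z ^ p ^ k = 1 := by rw [hz, conj_pow, hk]; group
      have hz2 : z = MulAut.conj (a * (c a)⁻¹ * c (b * ((c ^ m) b)⁻¹)) * β := by
        have h1 : z = (MulAut.conj a * c * (MulAut.conj a)⁻¹) * (MulAut.conj b * c ^ m * (MulAut.conj b)⁻¹) := by
          rw [hz]; group
        rw [h1, conj_mul_mul, conj_mul_mul, hβ, pow_add, pow_one, map_mul MulAut.conj (a * (c a)⁻¹)]
        have h2 : c * MulAut.conj (b * ((c ^ m) b)⁻¹) = MulAut.conj (c (b * ((c ^ m) b)⁻¹)) * c := by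
          ext x
          simp only [MulAut.mul_apply, MulAut.conj_apply, _root_.map_mul, _root_.map_inv, _root_.MulAut.inv_apply, _root_.MulAut.conj_symm_apply]
        calc _ = MulAut.conj (a * (c a)⁻¹) * (c * MulAut.conj (b * ((c ^ m) b)⁻¹)) * c ^ m := by group
          _ = _ := by rw [h2]; group
      have hzp : z ^ p = 1 := by
        refine htriv _ ?_ ⟨k, by rw [← pow_mul, mul_comm, pow_mul, hzk, one_pow]⟩
        have h1 : (QuotientGroup.mk' (Inn S)) (z ^ p) = 1 := by
          rw [map_pow, hz2, map_mul]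
          have h2 : (QuotientGroup.mk' (Inn S)) (MulAut.conj (a * (c a)⁻¹ * c (b * ((c ^ m) b)⁻¹))) = 1 := by
            rw [QuotientGroup.mk'_apply, QuotientGroup.eq_one_iff]
            exact ⟨_, rfl⟩
          rw [h2, one_mul, ← map_pow, ← hβp, pow_orderOf_eq_one, map_one]
        rwa [QuotientGroup.mk'_apply, QuotientGroup.eq_one_iff] at h1
      obtain ⟨i, ⟨w, rfl⟩, hi⟩ := conj_of_coprime (Inn S) hIc hzp hβp (by
        rw [hz2, mul_inv_cancel_right]; exact ⟨_, rfl⟩)
      rw [conj_mul_mul] at hi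
      rw [hz2] at hi
      have h1 := hinj (mul_right_cancel hi)
      exact ⟨w, h1.symm⟩
    have hK1 : kset c = kset β := by
      refine Set.eq_of_subset_of_ncard_le ?_ (ncard_kset hfix).ge (Set.toFinite _)
      rintro _ ⟨a, rfl⟩
      have h1 := hprod a 1
      simpa only [_root_.map_one, _root_.inv_one, _root_.mul_one] using h1
    have hK2 : c '' kset (c ^ m) = kset β := by
      refine Set.eq_of_subset_of_ncard_le ?_ ?_ (Set.toFinite _)
      · rintro _ ⟨_, ⟨b, rfl⟩, rfl⟩
        have h1 := hprod 1 b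
        simpa only [_root_.map_mul, _root_.map_inv, _root_.map_one, _root_.inv_one, _root_.mul_one, _root_.one_mul] using h1
      · rw [Set.ncard_image_of_injective _ c.injective, ncard_kset hfixm]
    have hmul : ∀ a ∈ kset β, ∀ b ∈ kset β, a * b ∈ kset β := by
      intro a ha b hb
      rw [← hK1] at ha
      rw [← hK2] at hb
      obtain ⟨a, rfl⟩ := ha
      obtain ⟨_, ⟨b, rfl⟩, rfl⟩ := hb
      exact hprod a b
    have hone : (1 : S) ∈ kset β := ⟨1, by simp⟩
    let K : Submonoid S :=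
      { carrier := kset β
        one_mem' := hone
        mul_mem' := fun ha hb => hmul _ ha _ hb }
    have hinvK : ∀ a ∈ kset β, a⁻¹ ∈ kset β := by
      intro a ha
      obtain ⟨n, hn⟩ := (isOfFinOrder_of_finite a).mem_powers_iff_mem_zpowers.2 (inv_mem (Subgroup.mem_zpowers a))
      have h1 : a ^ n = a⁻¹ := hn
      rw [← h1]
      exact K.pow_mem ha n
    let N : Subgroup S := { K with inv_mem' := fun {a} ha => hinvK a ha }
    have hN : N.Normal := by
      constructor
      rintro _ ⟨w, rfl⟩ h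
      have h1 : h * (w * (β w)⁻¹) * h⁻¹ = (h * w * (β (h * w))⁻¹) * (h * (β h)⁻¹)⁻¹ := by
        rw [map_mul]; group
      have h2 : h * (w * (β w)⁻¹) * h⁻¹ ∈ kset β := by
        rw [h1]
        exact hmul _ ⟨h * w, rfl⟩ _ (hinvK _ ⟨h, rfl⟩)
      exact h2
    rcases hN.eq_bot_or_eq_top with hb | ht
    · apply hβ1
      ext s
      have h1 : s * (β s)⁻¹ ∈ N := ⟨s, rfl⟩
      rw [hb, Subgroup.mem_bot, mul_inv_eq_one] at h1
      exact h1.symm
    · -- fixed point free
      have hsurj : Function.Surjective fun s => s * (β s)⁻¹ := by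
        intro s
        have h1 : s ∈ N := by rw [ht]; exact Subgroup.mem_top s
        exact h1
      have hinj' := Finite.injective_iff_surjective.2 hsurj
      have hfpf : MonoidHom.FixedPointFree (β : S →* S) := by
        intro s hs
        apply hinj'
        have h1 : β s = s := hs
        simp [h1]
      have hnil := S0033.result β hfpf p hp hβp
      have h1 : Group.IsSolvable S := inferInstance
      exact hna ⟨⟨IsSimpleGroup.comm_iff_isSolvable.2 h1⟩⟩

end coset

section rows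

variable {S : Type u} [Group S] [Finite S] {p : ℕ}

/-- the fixed points of an automorphism -/
def fixS (h : MulAut S) : Subgroup S := h.toMonoidHom.eqLocus (MonoidHom.id S)

omit [Finite S] in
theorem mem_fixS {h : MulAut S} {s : S} : s ∈ fixS h ↔ h s = s := Iff.rfl

omit [Finite S] in
/-- the conjugates under the fixed points of `h` of a fixed point `z ≠ 1` generate a non-solvable group -/
theorem not_solvable_sb {h : MulAut S} (hsb : SB h) {z : S} (hz : h z = z) (hz1 : z ≠ 1) :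
    ¬ Group.IsSolvable ↥(Subgroup.closure {y : S | ∃ r ∈ fixS h, y = r * z * r⁻¹}) := by
  intro hsol
  obtain ⟨N, h1, h2, h3, h4, h5⟩ := hsb
  obtain ⟨T, hT⟩ : ∃ T, T = Subgroup.closure {y : S | ∃ r ∈ fixS h, y = r * z * r⁻¹} := ⟨_, rfl⟩
  rw [← hT] at hsol
  have hconjT : ∀ r ∈ fixS h, ∀ t ∈ T, r * t * r⁻¹ ∈ T := by
    intro r hr t ht
    rw [hT] at ht ⊢
    induction ht using Subgroup.closure_induction with
    | mem t ht =>
      obtain ⟨r', hr', rfl⟩ := ht
      exact Subgroup.subset_closure ⟨r * r', mul_mem hr hr', by group⟩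
    | one => simp only [_root_.mul_one, _root_.mul_inv_cancel, _root_.OneMemClass.one_mem]
    | mul a b _ _ ha hb =>
      have : r * (a * b) * r⁻¹ = (r * a * r⁻¹) * (r * b * r⁻¹) := by group
      rw [this]; exact mul_mem ha hb
    | inv a _ ha =>
      have : r * a⁻¹ * r⁻¹ = (r * a * r⁻¹)⁻¹ := by group
      rw [this]; exact inv_mem ha
  have hNF : N ≤ fixS h := fun n hn => h1 n hn
  have hinf := inf_eq_bot (T := T) (N := N) hsol (fun n hn t ht => hconjT n (hNF hn) t ht) h3 h4
  have hzT : z ∈ T := by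
    rw [hT]
    exact Subgroup.subset_closure ⟨1, one_mem _, by simp⟩
  apply hz1
  refine h5 z hz ?_
  rw [Subgroup.mem_centralizer_iff]
  intro n hn
  have h6 : n * z * n⁻¹ * z⁻¹ ∈ T ⊓ N := by
    constructor
    · exact T.mul_mem (hconjT _ (hNF hn) _ hzT) (T.inv_mem hzT)
    · have h7 := (Subgroup.mem_normalizer_iff.1 (h2 z hz) n⁻¹).1 (N.inv_mem hn)
      have h8 : n * z * n⁻¹ * z⁻¹ = n * (z * n⁻¹ * z⁻¹) := by group
      have h9 : n * (z * n⁻¹ * z⁻¹) ∈ N := N.mul_mem hn h7
      rw [h8]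
      exact h9
  rw [hinf, Subgroup.mem_bot] at h6
  have h7 : n * z * n⁻¹ = z := mul_inv_eq_one.1 h6
  exact mul_inv_eq_iff_eq_mul.1 h7

/-- **Inner against outer.** -/
theorem spair_io (hAA : AAHyp.{u} p) (hRS : RSHyp.{u} p) (hp : p.Prime) [IsSimpleGroup S] (hna : ¬ IsMulCommutative S)
    (hsb : ∀ d : MulAut S, orderOf d = p → (¬ ∃ g, d = MulAut.conj g) → p ∣ Nat.card S → SB d)
    {x : S} {d : MulAut S} (hx : orderOf x = p) (hd : orderOf d = p) (hdo : ¬ ∃ g, d = MulAut.conj g)
    (hfix : ∃ s : S, d (s * x * s⁻¹) = s * x * s⁻¹) : SPair p (Inn S) (MulAut.conj x) d := by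
  have hinj := conj_injective_of_simple (S := S) hna
  have hI := conj_range_normal (S := S)
  obtain ⟨s, hs⟩ := hfix
  obtain ⟨z, hz⟩ : ∃ z, z = s * x * s⁻¹ := ⟨_, rfl⟩
  rw [← hz] at hs
  have hzp : orderOf z = p := by rw [hz, orderOf_cj, hx]
  have hcz : MulAut.conj s * MulAut.conj x * (MulAut.conj s)⁻¹ = MulAut.conj z := by
    rw [hz, map_mul, map_mul, map_inv]
  have hcomm : Commute (MulAut.conj z) d := by
    apply MulEquiv.ext
    intro a
    rw [MulAut.mul_apply, MulAut.mul_apply, MulAut.conj_apply, MulAut.conj_apply, map_mul, map_mul, map_inv, hs]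
  have hcommi : Commute (MulAut.conj z)⁻¹ d := hcomm.inv_left
  have hzo : orderOf (MulAut.conj z) = p := by rw [orderOf_injective _ hinj, hzp]
  obtain ⟨h, hh⟩ : ∃ h, h = (MulAut.conj z)⁻¹ * d := ⟨_, rfl⟩
  have hho : ¬ ∃ g, h = MulAut.conj g := by
    rintro ⟨g, hg⟩
    apply hdo
    refine ⟨z * g, ?_⟩
    rw [map_mul, ← hg, hh, mul_inv_cancel_left]
  have hh1 : h ^ p = 1 := by
    rw [hh, hcommi.mul_pow, inv_pow, ← hzo, pow_orderOf_eq_one, hzo, ← hd, pow_orderOf_eq_one, inv_one, one_mul]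
  have hhp : orderOf h = p :=
    orderOf_eq_prime_iff (hp := ⟨hp⟩) |>.2 ⟨hh1, fun h1 => hho ⟨1, by rw [h1, map_one]⟩⟩
  have hSB := hsb h hhp hho (by rw [← hx]; exact _root_.orderOf_dvd_natCard x)
  have hhz : h z = z := by
    rw [hh, MulAut.mul_apply, hs, ← map_inv, MulAut.conj_apply]
    group
  -- the centraliser of `h` in `Inn S`
  have hcenth : ∀ g : S, MulAut.conj g ∈ Subgroup.centralizer {h} ↔ h g = g := by
    intro g
    rw [Subgroup.mem_centralizer_singleton_iff]
    constructor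
    · intro h6
      apply hinj
      have h7 : h * MulAut.conj g * h⁻¹ = MulAut.conj (h g) := by
        apply MulEquiv.ext
        intro a
        rw [MulAut.mul_apply, MulAut.mul_apply, MulAut.conj_apply, MulAut.conj_apply, map_mul, map_mul, map_inv,
          MulAut.apply_inv_self]
      rw [← h7, ← h6, mul_inv_cancel_right]
    · intro h6
      apply MulEquiv.ext
      intro a
      rw [MulAut.mul_apply, MulAut.mul_apply, MulAut.conj_apply, MulAut.conj_apply, map_mul, map_mul, map_inv, h6]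
  have hcommh : Commute (MulAut.conj z) h := by
    rw [hh]
    exact (Commute.refl _).inv_right.mul_right hcomm
  refine SPair.conj_left (s := MulAut.conj s) ⟨s, rfl⟩ ?_
  rw [hcz]
  refine spair_of_aligned hAA hRS hp (R := Inn S ⊓ Subgroup.centralizer {h}) inf_le_left hzo ?_
    (s := 1) (one_mem _) (h := h) hcommh ?_ ⟨1, by rw [pow_one, hh1]⟩ (by rw [hh]; group) ?_
  · intro r hr
    rw [Subgroup.mem_inf, Subgroup.mem_centralizer_singleton_iff] at hr ⊢
    refine ⟨hI.conj_mem _ hr.1 _, ?_⟩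
    have h1 : Commute h r := hr.2.symm
    exact ((hcommh.symm.mul_right h1).mul_right hcommh.symm.inv_right).symm.eq
  · intro r hr
    rw [Subgroup.mem_inf, Subgroup.mem_centralizer_singleton_iff] at hr
    exact hr.2
  · intro hsol
    refine not_solvable_sb hSB hhz (fun h1 => ?_) ?_
    · rw [h1, orderOf_one] at hzp
      exact hp.one_lt.ne hzp
    · have h1 : (Subgroup.closure {y : S | ∃ r ∈ fixS h, y = r * z * r⁻¹}).map (MulAut.conj : S →* MulAut S) =
          Subgroup.closure {y : MulAut S | ∃ r ∈ Inn S ⊓ Subgroup.centralizer {h}, y = r * MulAut.conj z * r⁻¹} := by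
        rw [MonoidHom.map_closure]
        congr 1
        ext y
        constructor
        · rintro ⟨_, ⟨r, hr, rfl⟩, rfl⟩
          exact ⟨MulAut.conj r, ⟨⟨r, rfl⟩, (hcenth r).2 hr⟩, by rw [map_mul, map_mul, map_inv]⟩
        · rintro ⟨_, ⟨⟨r, rfl⟩, hr⟩, rfl⟩
          exact ⟨r * z * r⁻¹, ⟨r, (hcenth r).1 hr, rfl⟩, by rw [map_mul, map_mul, map_inv]⟩
      rw [← h1] at hsol
      exact Group.isSolvable_of_isSolvable_injective
        (f := ((Subgroup.closure {y : S | ∃ r ∈ fixS h, y = r * z * r⁻¹}).equivMapOfInjective _ hinj).toMonoidHom)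
        (MulEquiv.injective _)

omit [Finite S] in
/-- two outer automorphisms of order `p`, equal modulo `Inn S`, are conjugate, if powers are -/
theorem conj_of_zpow [hpf : Fact p.Prime] {c d : MulAut S} (hc : orderOf c = p) (hd : orderOf d = p)
    (hco : ¬ ∃ g, c = MulAut.conj g) (hcd : c⁻¹ * d ∈ Inn S)
    (h : ∃ s ∈ Inn S, ∃ j : ℤ, (s * d * s⁻¹) ^ j = c) : ∃ s ∈ Inn S, s * d * s⁻¹ = c := by
  have hI := conj_range_normal (S := S)
  obtain ⟨s, hs, j, hj⟩ := h
  let q := QuotientGroup.mk' (Inn S)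
  have hcp : c ^ p = 1 := by rw [← hc, pow_orderOf_eq_one]
  have hdp : d ^ p = 1 := by rw [← hd, pow_orderOf_eq_one]
  have h1 : q c = q d := by
    rw [QuotientGroup.mk'_apply, QuotientGroup.mk'_apply, QuotientGroup.eq]
    exact hcd
  have h2 : q s = 1 := by
    rw [QuotientGroup.mk'_apply, QuotientGroup.eq_one_iff]
    exact hs
  have h3 : q c ^ j = q c := by
    have h4 := congrArg q hj
    rw [map_zpow, map_mul, map_mul, map_inv, h2, one_mul, inv_one, mul_one, ← h1] at h4
    exact h4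
  have h4 : q c ^ (j - 1) = 1 := by rw [zpow_sub_one, h3, mul_inv_cancel]
  have h5 : orderOf (q c) = p := by
    refine orderOf_eq_prime (by rw [← map_pow, hcp, map_one]) fun h6 => hco ?_
    rw [QuotientGroup.mk'_apply, QuotientGroup.eq_one_iff] at h6
    obtain ⟨g, hg⟩ := h6
    exact ⟨g, hg.symm⟩
  have h6 : (p : ℤ) ∣ j - 1 := by rw [← h5]; exact orderOf_dvd_iff_zpow_eq_one.2 h4
  refine ⟨s, hs, ?_⟩
  obtain ⟨k, hk⟩ := h6
  have h7 : j = 1 + p * k := by linarith only [hk]
  rw [h7, zpow_add, zpow_one, zpow_mul, zpow_natCast, conj_pow, hdp] at hj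
  simpa only [_root_.mul_one, _root_.mul_inv_cancel, _root_.one_zpow] using hj

/-- **Outer against outer, part (b).** -/
theorem bpair_outer (hAA : AAHyp.{u} p) (hp : p.Prime) [IsSimpleGroup S] (hna : ¬ IsMulCommutative S)
    (hfix : ∀ d : MulAut S, orderOf d = p → (¬ ∃ g, d = MulAut.conj g) → ∀ x : S, orderOf x = p →
      ∃ s : S, d (s * x * s⁻¹) = s * x * s⁻¹)
    (hsb : ∀ d : MulAut S, orderOf d = p → (¬ ∃ g, d = MulAut.conj g) → p ∣ Nat.card S → SB d)
    (hconj : ∀ c d : MulAut S, orderOf c = p → orderOf d = p → (¬ ∃ g, c = MulAut.conj g) →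
      (¬ ∃ g, d = MulAut.conj g) → ∃ s ∈ Inn S, ∃ j : ℤ, (s * d * s⁻¹) ^ j = c)
    {c d : MulAut S} (hc : orderOf c = p) (hd : orderOf d = p)
    (hco : ¬ ∃ g, c = MulAut.conj g) (hdo : ¬ ∃ g, d = MulAut.conj g) : BPair p (Inn S) c d := by
  have hpf : Fact p.Prime := ⟨hp⟩
  have hinj := conj_injective_of_simple (S := S) hna
  have hI := conj_range_normal (S := S)
  have hcp : c ^ p = 1 := by rw [← hc, pow_orderOf_eq_one]
  have hdp : d ^ p = 1 := by rw [← hd, pow_orderOf_eq_one]
  -- `d ~ c ^ m`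
  obtain ⟨s, hs, m, hm, hdm⟩ : ∃ s ∈ Inn S, ∃ m : ℕ, m.Coprime p ∧ s * d * s⁻¹ = c ^ m := by
    obtain ⟨s, hs, j, hj⟩ := hconj d c hd hc hdo hco
    -- `(s c s⁻¹) ^ j = d`
    obtain ⟨m, hm⟩ := (isOfFinOrder_of_finite c).mem_powers_iff_mem_zpowers.2
      (⟨j, rfl⟩ : c ^ j ∈ Subgroup.zpowers c)
    have hm' : c ^ m = c ^ j := hm
    refine ⟨s⁻¹, inv_mem hs, m, ?_, ?_⟩
    · rw [Nat.coprime_comm, Nat.Prime.coprime_iff_not_dvd hp]
      rintro ⟨k, hk⟩
      apply hdo
      refine ⟨1, ?_⟩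
      rw [map_one, ← hj, conj_zpow, ← hm', hk, pow_mul, hcp, one_pow]
      group
    · rw [← hj, conj_zpow, hm']
      group
  refine BPair.conj_right hs ?_
  rw [hdm]
  by_cases hS : p ∣ Nat.card S
  · -- the element `x`
    obtain ⟨x, hx, hcx⟩ : ∃ x : S, orderOf x = p ∧ c x = x := by
      obtain ⟨y, hy⟩ := exists_prime_orderOf_dvd_card' p hS
      obtain ⟨t, ht⟩ := hfix c hc hco y hy
      exact ⟨_, by rw [orderOf_cj, hy], ht⟩
    by_contra hcon
    have hcon' : ∀ a ∈ Inn S, ∀ b ∈ Inn S, ∃ k : ℕ, (a * c * a⁻¹ * (b * c ^ m * b⁻¹)) ^ p ^ k = 1 := by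
      intro a ha b hb
      by_contra h
      push Not at h
      refine hcon ⟨a⁻¹ * b, mul_mem (inv_mem ha) hb, fun k hk => h k ?_⟩
      have h1 : a * c * a⁻¹ * (b * c ^ m * b⁻¹) = a * (c * (a⁻¹ * b * c ^ m * (a⁻¹ * b)⁻¹)) * a⁻¹ := by group
      rw [h1, conj_pow, hk]
      group
    have key : ∀ r ∈ fixS c, ∃ k : ℕ, (x * (r * x * r⁻¹)) ^ p ^ k = 1 := by
      intro r hr
      rw [mem_fixS] at hr
      -- elements commuting with `c`
      have hcomm : ∀ y : S, c y = y → Commute c (MulAut.conj y) := by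
        intro y hy
        apply MulEquiv.ext
        intro a
        rw [MulAut.mul_apply, MulAut.mul_apply, MulAut.conj_apply, MulAut.conj_apply, map_mul, map_mul, map_inv, hy]
      have hout : ∀ (n : ℕ) (y : S), n.Coprime p → ¬ ∃ g, c ^ n * MulAut.conj y = MulAut.conj g := by
        rintro n y hn ⟨g, hg⟩
        have h1 : c ^ n = MulAut.conj (g * y⁻¹) := by rw [map_mul, map_inv, ← hg]; group
        obtain ⟨l, -, hl⟩ := Nat.exists_mul_mod_eq_one_of_coprime hn hp.one_lt
        apply hco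
        refine ⟨(g * y⁻¹) ^ l, ?_⟩
        rw [map_pow, ← h1, ← pow_mul, ← Nat.div_add_mod (n * l) p, pow_add, pow_mul, hcp, one_pow, one_mul, hl,
          pow_one]
      have hord : ∀ (n : ℕ) (y : S), n.Coprime p → c y = y → y ^ p = 1 → orderOf (c ^ n * MulAut.conj y) = p := by
        intro n y hn hy hyp
        refine orderOf_eq_prime ?_ fun h1 => hout n y hn ⟨1, by rw [h1, map_one]⟩
        rw [((hcomm y hy).pow_left n).mul_pow, ← pow_mul, mul_comm, pow_mul, hcp, one_pow, one_mul, ← map_pow, hyp,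
          map_one]
      have hxp : x ^ p = 1 := by rw [← hx, pow_orderOf_eq_one]
      have hr2 : c (r * x * r⁻¹) = r * x * r⁻¹ := by rw [map_mul, map_mul, map_inv, hr, hcx]
      have hrp : (r * x * r⁻¹) ^ p = 1 := by rw [conj_pow, hxp]; group
      have h1p : (1 : ℕ).Coprime p := Nat.coprime_one_left p
      have hconj' : ∀ (n : ℕ) (y : S), n.Coprime p → c y = y → y ^ p = 1 →
          ∃ t ∈ Inn S, t * (c ^ n * MulAut.conj y) * t⁻¹ = c ^ n := by
        intro n y hn hy hyp
        have h0 : orderOf (c ^ n) = p := by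
          have := hord n 1 hn (map_one c) (one_pow p)
          rwa [map_one, mul_one] at this
        have h2 : ¬ ∃ g, c ^ n = MulAut.conj g := by
          have := hout n 1 hn
          rwa [map_one, mul_one] at this
        exact conj_of_zpow h0 (hord n y hn hy hyp) h2 (by rw [inv_mul_cancel_left]; exact ⟨y, rfl⟩)
          (hconj _ _ h0 (hord n y hn hy hyp) h2 (hout n y hn))
      obtain ⟨a, ha, ha'⟩ := hconj' 1 x h1p hcx hxp
      obtain ⟨b, hb, hb'⟩ := hconj' m (r * x * r⁻¹) hm hr2 hrp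
      obtain ⟨k, hk⟩ := hcon' a⁻¹ (inv_mem ha) b⁻¹ (inv_mem hb)
      have e1 : a⁻¹ * c * a⁻¹⁻¹ = c * MulAut.conj x := by
        rw [pow_one] at ha'
        calc a⁻¹ * c * a⁻¹⁻¹ = a⁻¹ * (a * (c * MulAut.conj x) * a⁻¹) * a⁻¹⁻¹ := by rw [ha']
          _ = _ := by group
      have e2 : b⁻¹ * c ^ m * b⁻¹⁻¹ = c ^ m * MulAut.conj (r * x * r⁻¹) := by
        calc b⁻¹ * c ^ m * b⁻¹⁻¹ = b⁻¹ * (b * (c ^ m * MulAut.conj (r * x * r⁻¹)) * b⁻¹) * b⁻¹⁻¹ := by rw [hb']
          _ = _ := by group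
      rw [e1, e2] at hk
      have e3 : c * MulAut.conj x * (c ^ m * MulAut.conj (r * x * r⁻¹)) =
          c ^ (1 + m) * MulAut.conj (x * (r * x * r⁻¹)) := by
        have h3 := ((hcomm x hcx).pow_left m).eq
        rw [map_mul MulAut.conj x (r * x * r⁻¹), pow_add, pow_one]
        generalize MulAut.conj (r * x * r⁻¹) = w
        calc c * MulAut.conj x * (c ^ m * w)
            = c * (MulAut.conj x * c ^ m) * w := by group
          _ = c * (c ^ m * MulAut.conj x) * w := by rw [h3]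
          _ = _ := by group
      have hcm : Commute (c ^ (1 + m)) (MulAut.conj (x * (r * x * r⁻¹))) :=
        (hcomm _ (by rw [map_mul, hcx, hr2])).pow_left _
      rw [e3, hcm.mul_pow] at hk
      refine ⟨k + 1, hinj ?_⟩
      rw [map_pow, map_one]
      have h4 : (MulAut.conj (x * (r * x * r⁻¹))) ^ p ^ k = ((c ^ (1 + m)) ^ p ^ k)⁻¹ := eq_inv_of_mul_eq_one_right hk
      rw [pow_succ, pow_mul, h4, inv_pow, ← pow_mul, ← pow_mul,
        show (1 + m) * (p ^ k * p) = p * ((1 + m) * p ^ k) by ring, pow_mul, hcp, one_pow, inv_one]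
    have hsol := solvable_of_AA hAA (R := fixS c) hx (fun r hr => by
      rw [mem_fixS] at hr ⊢
      rw [map_mul, map_mul, map_inv, hcx, hr]) key
    refine not_solvable_sb (hsb c hc hco hS) hcx (fun h1 => ?_) hsol
    rw [h1, orderOf_one] at hx
    exact hp.one_lt.ne hx
  · exact bpair_coset hna hS hc hm

/-- **The strong row.** -/
theorem srow_of (hAA : AAHyp.{u} p) (hRS : RSHyp.{u} p) (hp : p.Prime) [IsSimpleGroup S] (hna : ¬ IsMulCommutative S)
    (hin : ∀ x y : S, orderOf x = p → orderOf y = p → SPair p (⊤ : Subgroup S) x y)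
    (hfix : ∀ d : MulAut S, orderOf d = p → (¬ ∃ g, d = MulAut.conj g) → ∀ x : S, orderOf x = p →
      ∃ s : S, d (s * x * s⁻¹) = s * x * s⁻¹)
    (hsb : ∀ d : MulAut S, orderOf d = p → (¬ ∃ g, d = MulAut.conj g) → p ∣ Nat.card S → SB d)
    (hconj : ∀ c d : MulAut S, orderOf c = p → orderOf d = p → (¬ ∃ g, c = MulAut.conj g) →
      (¬ ∃ g, d = MulAut.conj g) → ∃ s ∈ Inn S, ∃ j : ℤ, (s * d * s⁻¹) ^ j = c) : SRow p S := by
  intro c d hc hd
  have hinj := conj_injective_of_simple (S := S) hna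
  have hI := conj_range_normal (S := S)
  by_cases hci : ∃ g, c = MulAut.conj g
  · obtain ⟨x, rfl⟩ := hci
    by_cases hdi : ∃ g, d = MulAut.conj g
    · obtain ⟨y, rfl⟩ := hdi
      rw [orderOf_injective _ hinj] at hc hd
      have := (hin x y hc hd).of_injective (MulAut.conj : S →* MulAut S) hinj
      rwa [← MonoidHom.range_eq_map] at this
    · rw [orderOf_injective _ hinj] at hc
      exact spair_io hAA hRS hp hna hsb hc hd hdi (hfix d hd hdi x hc)
  · by_cases hdi : ∃ g, d = MulAut.conj g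
    · obtain ⟨y, rfl⟩ := hdi
      rw [orderOf_injective _ hinj] at hd
      exact (spair_io hAA hRS hp hna hsb hd hc hci (hfix c hc hci y hd)).symm
    · obtain ⟨s, hs, j, h⟩ := hconj c d hc hd hci hdi
      refine SPair.mk' hp ?_ (bpair_outer hAA hp hna hfix hsb hconj hc hd hci hdi)
      refine APair.of_aligned (R := Inn S) hRS le_rfl hc (fun r hr => hI.conj_mem _ hr c)
        hs j (h := 1) (Commute.one_right _) (fun r _ => Commute.one_right _)
        (by rw [h, mul_one]) (not_solvable_inn hna ?_)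
      rintro rfl
      rw [orderOf_one] at hc
      exact hp.one_lt.ne hc

/-- **The strong row** from `OuterOk`, `HomOk` (`S` with commutative Sylow `p`-subgroups). -/
theorem srow_of_ok (hAA : AAHyp.{u} p) (hRS : RSHyp.{u} p) (hp : p.Prime) [IsSimpleGroup S]
    (hna : ¬ IsMulCommutative S) (hO : OuterOk p S) (hH : HomOk p S)
    (hin : ∀ x y : S, orderOf x = p → orderOf y = p → SPair p (⊤ : Subgroup S) x y) : SRow p S := by
  have : Fact p.Prime := ⟨hp⟩
  exact srow_of hAA hRS hp hna hin (fun d hd hdo x hx => exists_fix d hd (hH d hd hdo) hx) hO.sb hO.conj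

end rows

end Cfsg.Agent.H132.S5
end

-- part: H143/T5Alt
section
/-!
# The alternating row of T5 (helper143)

`srow_alt` : for `K ≃* A_n`, `5 ≤ n`, `p ≥ 5`, all automorphisms `c d` of order `p` of `K` have the
strong pair property `SPair` (hence `MPair`, `WPair`).
-/

set_option autoImplicit false

namespace Cfsg.Agent.H143.T5Alt

open Equiv MulAction Cfsg.Agent.H533.T5 Cfsg.Agent.H957.T5M

section perm

variable {α : Type*}

theorem not_ppow {p : ℕ} (hp : p.Prime) {C : Set α} (hC : Nat.card C = p) {u : Perm α}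
    (hu : ∀ x ∈ C, u x ∈ C) {s r : α} (hs : s ∈ C) (hr : r ∈ C) (hus : u s = s)
    (hur : u r ≠ r) (k : ℕ) : u ^ p ^ k ≠ 1 := by
  intro hk
  have hfin : Finite C := (Nat.card_ne_zero.mp (by rw [hC]; exact hp.ne_zero)).2
  have hper : Function.IsPeriodicPt u (p ^ k) r := by
    have : (u ^ p ^ k) r = r := by rw [hk]; rfl
    rwa [← Equiv.Perm.iterate_eq_pow] at this
  obtain ⟨j, -, hj⟩ := (Nat.dvd_prime_pow hp).1 hper.minimalPeriod_dvd
  rcases Nat.eq_zero_or_pos j with h0 | h0
  · rw [h0, pow_zero, Function.minimalPeriod_eq_one_iff_isFixedPt] at hj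
    exact hur hj
  · have hle : p ≤ Function.minimalPeriod u r := by
      rw [hj]; exact Nat.le_self_pow (by omega) p
    have hmem : ∀ i : ℕ, u^[i] r ∈ C := by
      intro i
      induction i with
      | zero => exact hr
      | succ i ih => rw [Function.iterate_succ_apply']; exact hu _ ih
    have hne : ∀ i : ℕ, u^[i] r ≠ s := by
      intro i h
      have h1 : u^[i] s = s := Function.IsFixedPt.iterate hus i
      have h2 : r = s := (Function.Injective.iterate u.injective i) (h.trans h1.symm)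
      exact hur (by rw [h2]; exact hus)
    let f : Fin p → {x : C // x ≠ ⟨s, hs⟩} := fun i =>
      ⟨⟨u^[i] r, hmem i⟩, fun h => hne i (congrArg Subtype.val h)⟩
    have hf : Function.Injective f := by
      intro i j hij
      have h1 : u^[(i : ℕ)] r = u^[(j : ℕ)] r :=
        congrArg (fun z : {x : C // x ≠ ⟨s, hs⟩} => ((z : C) : α)) hij
      exact Fin.ext ((Function.iterate_eq_iterate_iff_of_lt_minimalPeriod (by omega) (by omega)).1 h1)
    have h1 := Nat.card_le_card_of_injective f hf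
    rw [Nat.card_eq_fintype_card, Fintype.card_fin] at h1
    have h2 : Nat.card {x : C // x ≠ ⟨s, hs⟩} + 1 = Nat.card C := by
      classical
      have := Fintype.ofFinite C
      rw [Nat.card_eq_fintype_card, Nat.card_eq_fintype_card, Fintype.card_subtype_compl,
        Fintype.card_subtype_eq]
      have : 0 < Fintype.card C := Fintype.card_pos_iff.2 ⟨⟨s, hs⟩⟩
      omega
    omega

/-- the core: `c` acts on `C` as a `p`-cycle, `y` preserves `C`, `c * y` fixes two points of `C` and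
moves a third one. -/
theorem core {p : ℕ} (hp : p.Prime) {c y : Perm α} {a : α} {C : Set α}
    (hC : C = orbit (Subgroup.zpowers c) a) (hCc : Nat.card C = p)
    (hy : ∀ x ∈ C, y x ∈ C) {s t r : α} (hs : s ∈ C) (ht : t ∈ C) (hr : r ∈ C) (hst : s ≠ t)
    (h1 : c (y s) = s) (h2 : c (y t) = t) (h3 : c (y r) ≠ r) :
    ¬ Group.IsSolvable ↥(Subgroup.closure ({c, y} : Set (Perm α))) ∧
      ∀ k : ℕ, (c * y) ^ p ^ k ≠ 1 := by
  have hfin : Finite C := (Nat.card_ne_zero.mp (by rw [hCc]; exact hp.ne_zero)).2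
  have hc : ∀ x ∈ C, c x ∈ C := by
    intro x hx
    rw [hC] at hx ⊢
    obtain ⟨g, rfl⟩ := hx
    exact ⟨⟨c, Subgroup.mem_zpowers c⟩ * g, rfl⟩
  refine ⟨fun hsol => ?_, not_ppow hp hCc (fun x hx => hc _ (hy _ hx)) hs hr h1 h3⟩
  set H := Subgroup.closure ({c, y} : Set (Perm α)) with hH
  have himg : ∀ g : Perm α, (∀ x ∈ C, g x ∈ C) → ∀ x ∈ C, g⁻¹ x ∈ C := by
    intro g hg x hx
    have hbij : Function.Surjective (fun z : C => (⟨g z, hg z z.2⟩ : C)) := by
      apply Finite.surjective_of_injective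
      intro z w hzw
      exact Subtype.ext (g.injective (congrArg Subtype.val hzw))
    obtain ⟨z, hz⟩ := hbij ⟨x, hx⟩
    have : g z = x := congrArg Subtype.val hz
    have h2 : g⁻¹ x = z := by rw [Perm.inv_eq_iff_eq]; exact this.symm
    rw [h2]
    exact z.2
  have hHC : ∀ g ∈ H, ∀ x ∈ C, g x ∈ C := by
    intro g hg
    induction hg using Subgroup.closure_induction with
    | mem g hg =>
      rcases hg with rfl | hg
      · exact hc
      · rw [Set.mem_singleton_iff.1 hg]; exact hy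
    | one => intro x hx; exact hx
    | mul g h _ _ hg hh => intro x hx; exact hg _ (hh _ hx)
    | inv g _ hg => exact himg g hg
  have ha : a ∈ C := by rw [hC]; exact mem_orbit_self a
  have horb : (orbit H a : Set α) = C := by
    apply Set.Subset.antisymm
    · rintro _ ⟨g, rfl⟩
      exact hHC g.1 g.2 a ha
    · rw [hC]
      rintro _ ⟨g, rfl⟩
      have : (g : Perm α) ∈ H := by
        have hle : Subgroup.zpowers c ≤ H := by
          rw [Subgroup.zpowers_le]; exact Subgroup.subset_closure (by simp)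
        exact hle g.2
      exact ⟨⟨g.1, this⟩, rfl⟩
  have hprime : (Nat.card (orbit H a)).Prime := by
    rw [horb, hCc]; exact hp
  have hcy : c * y ∈ H := mul_mem (Subgroup.subset_closure (by simp))
    (Subgroup.subset_closure (by simp))
  have hs' : s ∈ orbit H a := by rw [horb]; exact hs
  have ht' : t ∈ orbit H a := by rw [horb]; exact ht
  have hr' : r ∈ orbit H a := by rw [horb]; exact hr
  have := Cfsg.Agent.H583.Col.fix_two (G := H) (Ω := orbit H a) hprime (g := ⟨c * y, hcy⟩)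
    (ω1 := ⟨s, hs'⟩) (ω2 := ⟨t, ht'⟩) (fun h => hst (congrArg Subtype.val h))
    (Subtype.ext h1) (Subtype.ext h2) ⟨r, hr'⟩
  exact h3 (congrArg Subtype.val this)

theorem minimalPeriod_eq {p : ℕ} (hp : p.Prime) {c : Perm α} (hc : c ^ p = 1) {a : α}
    (ha : c a ≠ a) : Function.minimalPeriod c a = p := by
  have hper : Function.IsPeriodicPt c p a := by
    have : (c ^ p) a = a := by rw [hc]; rfl
    rwa [← Equiv.Perm.iterate_eq_pow] at this
  rcases (Nat.dvd_prime hp).1 hper.minimalPeriod_dvd with h | h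
  · rw [Function.minimalPeriod_eq_one_iff_isFixedPt] at h
    exact absurd h ha
  · exact h

theorem pow_inj {p : ℕ} (hp : p.Prime) {c : Perm α} (hc : c ^ p = 1) {a : α}
    (ha : c a ≠ a) {i j : ℕ} (hi : i < p) (hj : j < p) (h : (c ^ i) a = (c ^ j) a) : i = j := by
  rw [← Equiv.Perm.iterate_eq_pow, ← Equiv.Perm.iterate_eq_pow] at h
  exact (Function.iterate_eq_iterate_iff_of_lt_minimalPeriod
    (by rw [minimalPeriod_eq hp hc ha]; exact hi) (by rw [minimalPeriod_eq hp hc ha]; exact hj)).1 h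

theorem card_orbit_eq {p : ℕ} (hp : p.Prime) {c : Perm α} (hc : c ^ p = 1) {a : α}
    (ha : c a ≠ a) : Nat.card (orbit (Subgroup.zpowers c) a) = p := by
  rw [← minimalPeriod_eq hp hc ha, Nat.card_congr (MulAction.orbitZPowersEquiv c a), Nat.card_zmod]
  rfl

end perm

section main

variable {α : Type*} [DecidableEq α]

theorem swap_mem {C : Set α} {u v x : α} (hu : u ∈ C) (hv : v ∈ C) (hx : x ∈ C) :
    swap u v x ∈ C := by
  rw [swap_apply_def]
  split_ifs
  · exact hv
  · exact hu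
  · exact hx

theorem exists_pair [Fintype α] {p : ℕ} (hp : p.Prime) (h5 : 5 ≤ p) {c d : Perm α} (hc : c ^ p = 1)
    (hc1 : c ≠ 1) (hd : d ^ p = 1) (hd1 : d ≠ 1) : ∃ g ∈ alternatingGroup α,
      ¬ Group.IsSolvable ↥(Subgroup.closure ({c, g * d * g⁻¹} : Set (Perm α))) ∧
      ∀ k : ℕ, (c * (g * d * g⁻¹)) ^ p ^ k ≠ 1 := by
  obtain ⟨a, ha⟩ : ∃ a, c a ≠ a := by
    by_contra hcon
    push Not at hcon
    exact hc1 (Equiv.ext hcon)
  obtain ⟨b, hb⟩ : ∃ a, d a ≠ a := by
    by_contra hcon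
    push Not at hcon
    exact hd1 (Equiv.ext hcon)
  have hd' : d⁻¹ ^ p = 1 := by rw [inv_pow, hd, inv_one]
  have hb' : d⁻¹ b ≠ b := fun h => hb (by rw [← Perm.eq_inv_iff_eq]; exact h.symm)
  set X : ℕ → α := fun i => (c ^ i) a with hX
  have hXinj : ∀ {i j : ℕ}, i < p → j < p → X i = X j → i = j := fun hi hj h =>
    pow_inj hp hc ha hi hj h
  have hXs : ∀ i, c (X i) = X (i + 1) := fun i => by
    simp only [hX]; rw [pow_succ', Perm.mul_apply]
  have hXp : X p = X 0 := by simp only [hX]; rw [hc, pow_zero]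
  have hXne : ∀ {i j : ℕ}, i < p → j < p → i ≠ j → X i ≠ X j := fun hi hj h h' =>
    h (hXinj hi hj h')
  let f : Fin p ↪ α := ⟨fun i => (d⁻¹ ^ (i : ℕ)) b, fun i j h =>
    Fin.ext (pow_inj hp hd' hb' i.2 j.2 h)⟩
  let f' : Fin p ↪ α := ⟨fun i => X i, fun i j h => Fin.ext (hXinj i.2 j.2 h)⟩
  obtain ⟨σ, hσ⟩ : ∃ σ : Perm α, ∀ i < p, σ ((d⁻¹ ^ i) b) = X i := by
    have := (Equiv.Perm.isMultiplyPretransitive α p).exists_smul_eq f f'
    obtain ⟨σ, h⟩ := this
    exact ⟨σ, fun i hi => congrFun (congrArg DFunLike.coe h) ⟨i, hi⟩⟩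
  have hσ0 := hσ 0 (by omega)
  set y₀ : Perm α := σ * d * σ⁻¹ with hy₀
  have hy0 : ∀ i < p, y₀ (X (i + 1)) = X i := by
    intro i hi
    have h1 : σ ((d⁻¹ ^ (i + 1)) b) = X (i + 1) := by
      rcases Nat.lt_or_ge (i + 1) p with h | h
      · exact hσ _ h
      · have : i + 1 = p := by omega
        rw [this, hd', hXp, ← hσ0, pow_zero]
    have h2 : σ⁻¹ (X (i + 1)) = (d⁻¹ ^ (i + 1)) b := by rw [Perm.inv_eq_iff_eq]; exact h1.symm
    have h3 : d ((d⁻¹ ^ (i + 1)) b) = (d⁻¹ ^ i) b := by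
      have : d * d⁻¹ ^ (i + 1) = d⁻¹ ^ i := by rw [pow_succ', mul_inv_cancel_left]
      rw [← this]; rfl
    rw [hy₀, Perm.mul_apply, Perm.mul_apply, h2, h3]
    exact hσ i hi
  set C : Set α := orbit (Subgroup.zpowers c) a with hC
  have hCc : Nat.card C = p := card_orbit_eq hp hc ha
  have hXC : ∀ i, X i ∈ C := fun i => ⟨⟨c ^ i, Subgroup.npow_mem_zpowers c i⟩, rfl⟩
  have hCX : ∀ x ∈ C, ∃ i < p, x = X (i + 1) := by
    rintro _ ⟨⟨g, hg⟩, rfl⟩
    obtain ⟨n, rfl⟩ := Subgroup.mem_zpowers_iff.1 hg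
    refine ⟨((n - 1) % (p : ℤ)).toNat, ?_, ?_⟩
    · have h1 : 0 ≤ (n - 1) % (p : ℤ) := Int.emod_nonneg _ (by have := hp.pos; omega)
      have h2 : (n - 1) % (p : ℤ) < p := Int.emod_lt_of_pos _ (by have := hp.pos; omega)
      omega
    · have h1 : 0 ≤ (n - 1) % (p : ℤ) := Int.emod_nonneg _ (by have := hp.pos; omega)
      have h2 : n = (((n - 1) % (p : ℤ)).toNat + 1 : ℕ) + (p : ℤ) * ((n - 1) / p) := by
        have := Int.emod_add_mul_ediv (n - 1) p
        push_cast
        rw [Int.toNat_of_nonneg h1]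
        linarith only [this]
      show (c ^ n) a = (c ^ (((n - 1) % (p : ℤ)).toNat + 1)) a
      conv_lhs => rw [h2]
      rw [zpow_add, zpow_mul, zpow_natCast, zpow_natCast, hc, one_zpow, mul_one]
  have hy0C : ∀ x ∈ C, y₀ x ∈ C := by
    intro x hx
    obtain ⟨i, hi, rfl⟩ := hCX x hx
    rw [hy0 i hi]
    exact hXC i
  -- it is enough to find `π` of each sign
  suffices H : ∀ ε : ℤˣ, ∃ π : Perm α, Perm.sign π = ε ∧
      ¬ Group.IsSolvable ↥(Subgroup.closure ({c, π * y₀ * π⁻¹} : Set (Perm α))) ∧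
      ∀ k : ℕ, (c * (π * y₀ * π⁻¹)) ^ p ^ k ≠ 1 by
    obtain ⟨π, hπ, h⟩ := H (Perm.sign σ)
    refine ⟨π * σ, ?_, ?_⟩
    · rw [Perm.mem_alternatingGroup, map_mul, hπ, Int.units_mul_self]
    · have : π * σ * d * (π * σ)⁻¹ = π * y₀ * π⁻¹ := by rw [hy₀]; group
      rw [this]
      exact h
  have n01 : X 0 ≠ X 1 := hXne (by omega) (by omega) (by omega)
  have n02 : X 0 ≠ X 2 := hXne (by omega) (by omega) (by omega)
  have n03 : X 0 ≠ X 3 := hXne (by omega) (by omega) (by omega)
  have n04 : X 0 ≠ X 4 := hXne (by omega) (by omega) (by omega)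
  have n12 : X 1 ≠ X 2 := hXne (by omega) (by omega) (by omega)
  have n13 : X 1 ≠ X 3 := hXne (by omega) (by omega) (by omega)
  have n14 : X 1 ≠ X 4 := hXne (by omega) (by omega) (by omega)
  have n23 : X 2 ≠ X 3 := hXne (by omega) (by omega) (by omega)
  have n24 : X 2 ≠ X 4 := hXne (by omega) (by omega) (by omega)
  have n34 : X 3 ≠ X 4 := hXne (by omega) (by omega) (by omega)
  have nq0 : X (p - 1) ≠ X 0 := hXne (by omega) (by omega) (by omega)
  have nq1 : X (p - 1) ≠ X 1 := hXne (by omega) (by omega) (by omega)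
  have y1 : y₀ (X 1) = X 0 := hy0 0 (by omega)
  have y2 : y₀ (X 2) = X 1 := hy0 1 (by omega)
  have y3 : y₀ (X 3) = X 2 := hy0 2 (by omega)
  have y4 : y₀ (X 4) = X 3 := hy0 3 (by omega)
  have yp : y₀ (X 0) = X (p - 1) := by
    have := hy0 (p - 1) (by omega)
    rwa [Nat.sub_add_cancel (by omega), hXp] at this
  have cp : c (X (p - 1)) = X 0 := by
    rw [hXs, Nat.sub_add_cancel (by omega), hXp]
  intro ε
  rcases Int.units_eq_one_or ε with rfl | rfl
  · -- an even `π`: the three-cycle `x0 → x1 → x2 → x0`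
    refine ⟨swap (X 0) (X 1) * swap (X 1) (X 2), ?_, ?_⟩
    · rw [map_mul, Perm.sign_swap n01, Perm.sign_swap n12]; rfl
    · rw [mul_inv_rev, swap_inv, swap_inv]
      refine core hp hC hCc ?_ (hXC 2) (hXC 4) (hXC 3) n24 ?_ ?_ ?_
      · intro x hx
        simp only [Perm.mul_apply]
        exact swap_mem (hXC 0) (hXC 1) (swap_mem (hXC 1) (hXC 2)
          (hy0C _ (swap_mem (hXC 1) (hXC 2) (swap_mem (hXC 0) (hXC 1) hx))))
      · simp only [Perm.mul_apply]
        rw [swap_apply_of_ne_of_ne n02.symm n12.symm, swap_apply_right, y1,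
          swap_apply_of_ne_of_ne n01 n02, swap_apply_left, hXs]
      · simp only [Perm.mul_apply]
        rw [swap_apply_of_ne_of_ne n04.symm n14.symm, swap_apply_of_ne_of_ne n14.symm n24.symm, y4,
          swap_apply_of_ne_of_ne n13.symm n23.symm, swap_apply_of_ne_of_ne n03.symm n13.symm, hXs]
      · simp only [Perm.mul_apply]
        rw [swap_apply_of_ne_of_ne n03.symm n13.symm, swap_apply_of_ne_of_ne n13.symm n23.symm, y3,
          swap_apply_right, swap_apply_right, hXs]
        exact n13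
  · refine ⟨swap (X 0) (X 1), Perm.sign_swap n01, ?_⟩
    rw [swap_inv]
    refine core hp hC hCc ?_ (hXC 3) (hXC 4) (hXC 1) n34 ?_ ?_ ?_
    · intro x hx
      simp only [Perm.mul_apply]
      exact swap_mem (hXC 0) (hXC 1) (hy0C _ (swap_mem (hXC 0) (hXC 1) hx))
    · simp only [Perm.mul_apply]
      rw [swap_apply_of_ne_of_ne n03.symm n13.symm, y3, swap_apply_of_ne_of_ne n02.symm n12.symm,
        hXs]
    · simp only [Perm.mul_apply]
      rw [swap_apply_of_ne_of_ne n04.symm n14.symm, y4, swap_apply_of_ne_of_ne n03.symm n13.symm,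
        hXs]
    · simp only [Perm.mul_apply]
      rw [swap_apply_right, yp, swap_apply_of_ne_of_ne nq0 nq1, cp]
      exact n01

end main

section row

theorem spair_alt {n p : ℕ} (hp : p.Prime) (h5 : 5 ≤ p) (x y : alternatingGroup (Fin n))
    (hx : orderOf x = p) (hy : orderOf y = p) :
    SPair p (⊤ : Subgroup (alternatingGroup (Fin n))) x y := by
  have hx' : (x : Perm (Fin n)) ^ p = 1 := by
    rw [← hx]; exact_mod_cast congrArg Subtype.val (pow_orderOf_eq_one x)
  have hy' : (y : Perm (Fin n)) ^ p = 1 := by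
    rw [← hy]; exact_mod_cast congrArg Subtype.val (pow_orderOf_eq_one y)
  have hx1 : (x : Perm (Fin n)) ≠ 1 := by
    intro h
    have : x = 1 := Subtype.ext h
    rw [this, orderOf_one] at hx
    omega
  have hy1 : (y : Perm (Fin n)) ≠ 1 := by
    intro h
    have : y = 1 := Subtype.ext h
    rw [this, orderOf_one] at hy
    omega
  obtain ⟨g, hg, h1, h2⟩ := exists_pair hp h5 hx' hx1 hy' hy1
  refine ⟨⟨⟨g, hg⟩, Subgroup.mem_top _, fun hsol => h1 ?_⟩,
    ⟨⟨g, hg⟩, Subgroup.mem_top _, ?_⟩⟩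
  · have e : Subgroup.closure ({(x : Perm (Fin n)), g * y * g⁻¹} : Set (Perm (Fin n)))
        = (Subgroup.closure ({x, ⟨g, hg⟩ * y * ⟨g, hg⟩⁻¹} :
          Set (alternatingGroup (Fin n)))).map (alternatingGroup (Fin n)).subtype := by
      rw [closure_pair_map]; rfl
    rw [e]
    exact Group.isSolvable_of_surjective
      (f := (alternatingGroup (Fin n)).subtype.subgroupMap _)
      ((alternatingGroup (Fin n)).subtype.subgroupMap_surjective _)
  · rintro ⟨k, hk⟩
    refine h2 k ?_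
    have := pow_orderOf_eq_one (x * (⟨g, hg⟩ * y * ⟨g, hg⟩⁻¹))
    rw [hk] at this
    exact congrArg Subtype.val this

/-- **The alternating row** (strong form). -/
theorem srow_alt {K : Type*} [Group K] [Finite K] [IsSimpleGroup K] {n : ℕ} (hn : 5 ≤ n)
    (h : Nonempty (K ≃* alternatingGroup (Fin n))) {p : ℕ} (hp : p.Prime) (h5 : 5 ≤ p) :
    SRow p K := by
  obtain ⟨e⟩ := h
  have hA : IsSimpleGroup (alternatingGroup (Fin n)) :=
    alternatingGroup.isSimpleGroup (by rw [Nat.card_eq_fintype_card, Fintype.card_fin]; exact hn)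
  have hnc : ¬ ∀ x y : alternatingGroup (Fin n), Commute x y := by
    intro hc
    have h1 := (alternatingGroup.isMulCommutative_iff_card_le_three (α := Fin n)).1
      ⟨⟨fun x y => hc x y⟩⟩
    rw [Nat.card_eq_fintype_card, Fintype.card_fin] at h1
    omega
  have hna : ¬ IsMulCommutative K := by
    intro hc
    apply hnc
    intro x y
    obtain ⟨x, rfl⟩ := e.surjective x
    obtain ⟨y, rfl⟩ := e.surjective y
    exact (congrArg e (hc.is_comm.comm x y)) |> fun h => by rwa [map_mul, map_mul] at h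
  have hidx : ¬ p ∣ (MulAut.conj : K →* MulAut K).range.index := by
    rw [Cfsg.Agent.H55.OutGen.index_range_conj_congr e]
    exact Cfsg.Agent.H390.alt_index hn hA hnc hp (by omega)
  refine SRow.of_inner hna (fun a ha => mem_conj_range_of_orderOf hp hidx a ha) ?_
  intro x y hx hy
  refine SPair.of_hom hp e.toMonoidHom (T := ⊤) ?_ ?_
  · rw [← MonoidHom.range_eq_map, MonoidHom.range_eq_top.2 e.surjective]
  · refine spair_alt hp h5 _ _ ?_ ?_
    · rw [← hx]; exact MulEquiv.orderOf_eq e x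
    · rw [← hy]; exact MulEquiv.orderOf_eq e y

end row

end Cfsg.Agent.H143.T5Alt
end

-- part: H132/S5/Main
section
/-!
# The strong rows (S2274): interface and assembly

`SBelow p n` : the strong rows of the simple groups of order less than `n`.
`SRowFam p Fam` : the strong row of a family, given the rows of the smaller groups.
`Irr5303 p` : S5303.
`SBox p` : the black boxes (AA-theorem = S3833, solvable Baer-Suzuki = S3829, S5303).
`srow_all` : all rows from the rows of the families; `s2274_of` : S2274 from the rows.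
-/

set_option autoImplicit false

universe u

namespace Cfsg.Agent.H132.S5

open Cfsg Cfsg.Agent.H533.T5 Cfsg.Agent.H106.MT

/-- The strong rows of the simple groups of order less than `n`. -/
def SBelow (p n : ℕ) : Prop :=
  ∀ (L : Type u) [Group L] [Finite L], IsSimpleGroup L → ¬ IsMulCommutative L →
    Nat.card L < n → SRow p L

/-- The strong row of a family, given the strong rows of the smaller simple groups. -/
def SRowFam (p : ℕ) (Fam : ∀ (S : Type u) [Group S], Prop) : Prop :=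
  ∀ (S : Type u) [Group S] [Finite S] [IsSimpleGroup S], ¬ IsMulCommutative S → Fam S →
    SBelow.{u} p (Nat.card S) → SRow p S

/-- S5303: abelian Sylow `p`-subgroups of simple groups. -/
def Irr5303 (p : ℕ) : Prop :=
  ∀ (G : Type u) [Group G] [Finite G] [IsSimpleGroup G], ¬ IsMulCommutative G → ∀ (P : Sylow p G),
    (P : Subgroup G) ≠ ⊥ → IsMulCommutative (P : Subgroup G) → ∀ Ω : Subgroup G,
    (∀ x : G, x ∈ Ω ↔ x ∈ (P : Subgroup G) ∧ x ^ p = 1) →
    (∀ B : Subgroup G, B ≤ Ω →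
      (∀ n ∈ Subgroup.normalizer ((P : Subgroup G) : Set G), ∀ b ∈ B, n * b * n⁻¹ ∈ B) →
      B = ⊥ ∨ B = Ω) ∧
    (∃ n ∈ Subgroup.normalizer ((P : Subgroup G) : Set G), ∃ x ∈ Ω, n * x * n⁻¹ ≠ x) ∧
    ∃ k e : ℕ, Nonempty (↥(P : Subgroup G) ≃* (Fin k → Multiplicative (ZMod (p ^ e))))

/-- The black boxes (all proved in the tree: S3833, S3829, S5303). -/
structure SBox (p : ℕ) : Prop where
  aa : AAHyp.{u} p
  rs : RSHyp.{u} p
  irr : Irr5303.{u} p

theorem srowFam_alt {p : ℕ} (hp : p.Prime) (h5 : 5 ≤ p) :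
    SRowFam.{u} p (fun S _ => IsAlternating S) := by
  rintro S _ _ _ - ⟨n, hn, he⟩ -
  exact Cfsg.Agent.H143.T5Alt.srow_alt hn he hp h5

theorem charP_of_dvd {p : ℕ} (hp : p.Prime) {F : Type} [Field F] [Fintype F]
    (h : p ∣ Fintype.card F) : CharP F p := by
  obtain ⟨n, hr, hn⟩ := FiniteField.card F (ringChar F)
  rw [hn] at h
  have h1 := (Nat.prime_dvd_prime_iff_eq hp hr).1 (hp.dvd_of_dvd_pow h)
  rw [h1]
  infer_instance

/-- **All rows.** -/
theorem srow_all {p : ℕ} (hp : p.Prime) (h5 : 5 ≤ p)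
    (hK : ∀ (S : Type u) [Group S] [Finite S] [IsSimpleGroup S], IsKnownSimple' S)
    (psl : SRowFam.{u} p (fun S _ => IsPSL S))
    (psp : SRowFam.{u} p (fun S _ => IsPSp S)) (psu : SRowFam.{u} p (fun S _ => IsPSU S))
    (odd : SRowFam.{u} p (fun S _ => IsPOmegaOdd S))
    (plus : SRowFam.{u} p (fun S _ => IsPOmegaPlus S))
    (minus : SRowFam.{u} p (fun S _ => IsPOmegaMinus S))
    (exc : SRowFam.{u} p (fun S _ => IsExceptionalLieType S))
    (spor : SRowFam.{u} p (fun S _ => IsSporadicGroup S)) :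
    ∀ (S : Type u) [Group S] [Finite S], IsSimpleGroup S → ¬ IsMulCommutative S → SRow p S := by
  have key : ∀ (n : ℕ) (S : Type u) [Group S] [Finite S], IsSimpleGroup S →
      ¬ IsMulCommutative S → Nat.card S = n → SRow p S := by
    intro n
    induction n using Nat.strong_induction_on with
    | _ n ih =>
    intro S _ _ hs hna hn
    have hlt : SBelow.{u} p (Nat.card S) := by
      intro L _ _ hL hLna hLc
      exact ih _ (by rwa [← hn]) L hL hLna rfl
    rcases hK S with h | h | h | h | h | h | h | h | h | h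
    · exfalso
      apply hna
      have := Fact.mk (show (Nat.card S).Prime from h)
      have : IsCyclic S := isCyclic_of_prime_card (p := Nat.card S) rfl
      let _ := IsCyclic.commGroup (α := S)
      exact ⟨⟨fun a b => mul_comm a b⟩⟩
    · exact srowFam_alt hp h5 S hna h hlt
    · exact psl S hna h hlt
    · exact psp S hna h hlt
    · exact psu S hna h hlt
    · exact odd S hna h hlt
    · exact plus S hna h hlt
    · exact minus S hna h hlt
    · exact exc S hna h hlt
    · exact spor S hna h hlt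
  intro S _ _ hs hna
  exact key _ S hs hna rfl

/-- **S2274 from the strong row of `S`.** -/
theorem s2274_of {G : Type u} [Group G] [Finite G] (S : Subgroup G) [S.Normal]
    (hCS : Subgroup.centralizer (S : Set G) = ⊥) {p : ℕ} (hp : p.Prime)
    (hrow : SRow p ↥S) (c d : G) (hc : orderOf c = p) (hd : orderOf d = p) :
    (∃ g : G, ¬ Group.IsSolvable ↥(Subgroup.closure ({c, g * d * g⁻¹} : Set G))) ∧
    (∃ g : G, ¬ ∃ k : ℕ, orderOf (c * (g * d * g⁻¹)) = p ^ k) := by
  let φ : G →* MulAut S := MulAut.conjNormal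
  have hinj : Function.Injective φ := by
    rw [injective_iff_map_eq_one]
    intro g hg
    have h1 : g ∈ Subgroup.centralizer (S : Set G) := by
      rw [Subgroup.mem_centralizer_iff]
      intro s hs
      have h2 := congrArg (fun e : MulAut S => ((e ⟨s, hs⟩ : S) : G)) hg
      simp only [φ, MulAut.conjNormal_apply, MulAut.one_apply] at h2
      calc s * g = g * s * g⁻¹ * g := by rw [h2]
        _ = g * s := by group
    rw [hCS, Subgroup.mem_bot] at h1
    exact h1
  have h := hrow (φ c) (φ d) (by rw [orderOf_injective φ hinj, hc])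
    (by rw [orderOf_injective φ hinj, hd])
  have hT : (MulAut.conj : S →* MulAut S).range ≤ S.map φ := by
    rintro _ ⟨s, rfl⟩
    refine ⟨s, s.2, ?_⟩
    ext t
    simp only [φ, MulAut.conjNormal_apply, MulAut.conj_apply, _root_.Subgroup.coe_mul, _root_.InvMemClass.coe_inv]
  obtain ⟨⟨g, -, h1⟩, ⟨g', -, h2⟩⟩ := h.of_hom hp φ hT
  exact ⟨⟨g, h1⟩, ⟨g', h2⟩⟩

end Cfsg.Agent.H132.S5
end
end
end
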