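import Cfsg.Agent.H106.MTools2
import Cfsg.Agent.H533.T5.SporDefs_m3
import Cfsg.Agent.FastGrp
import Cfsg.Agent.Prune
set_option linter.all false
prune_inst 0x7f00000000000000000000000000000000000000000000000000000000000000000000000000000000000000000000000000000000000000000000000000000000000000000000000000000000000000003fffffffffffffffffffffffffffbeffbdffffffff
open scoped Cfsg.Agent.FastGrp

/-!
# S2274: the two halves `APair`, `BPair` of the strong pair predicate `SPair`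

* `APair S c d` : some `S`-conjugate of `d` generates with `c` a non-solvable group (powers of `c`, `d` allowed);
* `BPair p S c d` : for some `S`-conjugate `d'` of `d` no `p`-power of `c * d'` is trivial (no powers);
* `RSHyp p` : the solvable Baer-Suzuki theorem (S3829) for one conjugacy class; `solvable_of_RS` relative form;
* `APair.of_aligned`, `BPair.of_aligned`;
* the analogues of the tools in `H106/MTools`, `H106/MTools2`.
-/

set_option autoImplicit false

universe u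

namespace Cfsg.Agent.H132.S5

open Cfsg.Agent.H533.T5 Cfsg.Agent.H957.T5M Cfsg.Agent.H106.MB Cfsg.Agent.H106.MT

section defs

variable {G : Type*} [Group G] {H : Type*} [Group H]

/-- Some `S`-conjugate of `d` generates with `c` a non-solvable group. -/
def APair (S : Subgroup G) (c d : G) : Prop :=
  ∃ g ∈ S, ¬ Group.IsSolvable ↥(Subgroup.closure ({c, g * d * g⁻¹} : Set G))

/-- For some `S`-conjugate `d'` of `d` the product `c * d'` is not a `p`-element. -/
def BPair (p : ℕ) (S : Subgroup G) (c d : G) : Prop :=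
  ∃ g ∈ S, ∀ k : ℕ, (c * (g * d * g⁻¹)) ^ p ^ k ≠ 1

theorem not_orderOf_iff {p : ℕ} (hp : p.Prime) (x : G) :
    (¬ ∃ k : ℕ, orderOf x = p ^ k) ↔ ∀ k : ℕ, x ^ p ^ k ≠ 1 := by
  constructor
  · intro h k hk
    obtain ⟨i, -, hi⟩ := (Nat.dvd_prime_pow hp).1 (orderOf_dvd_of_pow_eq_one hk)
    exact h ⟨i, hi⟩
  · rintro h ⟨k, hk⟩
    exact h k (by rw [← hk, pow_orderOf_eq_one])

variable {p : ℕ} {S T : Subgroup G} {c d : G}

theorem spair_iff (hp : p.Prime) : SPair p S c d ↔ APair S c d ∧ BPair p S c d := by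
  unfold SPair APair BPair
  refine and_congr_right fun _ => ?_
  constructor
  · rintro ⟨g, hg, h⟩
    exact ⟨g, hg, (not_orderOf_iff hp _).1 h⟩
  · rintro ⟨g, hg, h⟩
    exact ⟨g, hg, (not_orderOf_iff hp _).2 h⟩

theorem SPair.a (h : SPair p S c d) : APair S c d := h.1

theorem SPair.b (hp : p.Prime) (h : SPair p S c d) : BPair p S c d := ((spair_iff hp).1 h).2

theorem SPair.mk' (hp : p.Prime) (ha : APair S c d) (hb : BPair p S c d) : SPair p S c d :=
  (spair_iff hp).2 ⟨ha, hb⟩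

/-! ### `APair` -/

theorem APair.mono (h : APair S c d) (hST : S ≤ T) : APair T c d := by
  obtain ⟨g, hg, h⟩ := h
  exact ⟨g, hST hg, h⟩

theorem APair.conj_right {s : G} (hs : s ∈ S) (h : APair S c (s * d * s⁻¹)) : APair S c d := by
  obtain ⟨g, hg, h⟩ := h
  refine ⟨g * s, mul_mem hg hs, ?_⟩
  have : g * s * d * (g * s)⁻¹ = g * (s * d * s⁻¹) * g⁻¹ := by group
  rwa [this]

theorem APair.conj_left {s : G} (hs : s ∈ S) (h : APair S (s * c * s⁻¹) d) : APair S c d := by
  obtain ⟨g, hg, h⟩ := h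
  refine ⟨s⁻¹ * g, mul_mem (inv_mem hs) hg, fun hP => h ?_⟩
  have h1 := (isSolvable_closure_pair_conj_iff s c (s⁻¹ * g * d * (s⁻¹ * g)⁻¹)).mpr hP
  have : s * (s⁻¹ * g * d * (s⁻¹ * g)⁻¹) * s⁻¹ = g * d * g⁻¹ := by group
  rwa [this] at h1

theorem APair.symm (h : APair S c d) : APair S d c := by
  obtain ⟨g, hg, h⟩ := h
  refine ⟨g⁻¹, inv_mem hg, fun hP => h ?_⟩
  have h1 := (isSolvable_closure_pair_conj_iff g d (g⁻¹ * c * g⁻¹⁻¹)).mpr hP
  have : g * (g⁻¹ * c * g⁻¹⁻¹) * g⁻¹ = c := by group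
  rw [this, Set.pair_comm] at h1
  exact h1

theorem isSolvable_of_le {A B : Subgroup G} (h : A ≤ B) (hB : Group.IsSolvable ↥B) :
    Group.IsSolvable ↥A :=
  Group.isSolvable_of_isSolvable_injective (f := Subgroup.inclusion h)
    (Subgroup.inclusion_injective h)

/-- A pair of powers suffices. -/
theorem APair.of_zpow (i j : ℤ) (h : APair S (c ^ i) (d ^ j)) : APair S c d := by
  obtain ⟨g, hg, h⟩ := h
  refine ⟨g, hg, fun hP => h (isSolvable_of_le ?_ hP)⟩
  rw [Subgroup.closure_le]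
  rintro x hx
  rcases hx with rfl | hx
  · exact zpow_mem (Subgroup.subset_closure (by simp)) _
  · rw [Set.mem_singleton_iff] at hx
    rw [hx]
    have : g * d ^ j * g⁻¹ = (g * d * g⁻¹) ^ j := by
      rw [conj_zpow]
    rw [this]
    exact zpow_mem (Subgroup.subset_closure (by simp)) _

theorem APair.of_hom (φ : G →* H) {S : Subgroup G} {T : Subgroup H} (hT : T ≤ S.map φ) {c d : G}
    (h : APair T (φ c) (φ d)) : APair S c d := by
  obtain ⟨t, ht, h⟩ := h
  obtain ⟨g, hg, rfl⟩ := hT ht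
  refine ⟨g, hg, fun hP => h ?_⟩
  have : Subgroup.closure ({φ c, φ g * φ d * (φ g)⁻¹} : Set H)
      = (Subgroup.closure ({c, g * d * g⁻¹} : Set G)).map φ := by
    rw [closure_pair_map]; simp only [_root_.map_mul, _root_.map_inv]
  rw [this]
  exact Group.isSolvable_of_surjective
    (f := φ.subgroupMap (Subgroup.closure ({c, g * d * g⁻¹} : Set G)))
    (φ.subgroupMap_surjective _)

theorem APair.of_injective (φ : G →* H) (hφ : Function.Injective φ) {S : Subgroup G} {c d : G}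
    (h : APair S c d) : APair (S.map φ) (φ c) (φ d) := by
  obtain ⟨g, hg, h⟩ := h
  refine ⟨φ g, Subgroup.mem_map_of_mem φ hg, fun hP => h ?_⟩
  have : Subgroup.closure ({φ c, φ g * φ d * (φ g)⁻¹} : Set H)
      = (Subgroup.closure ({c, g * d * g⁻¹} : Set G)).map φ := by
    rw [closure_pair_map]; simp only [_root_.map_mul, _root_.map_inv]
  rw [this] at hP
  exact Group.isSolvable_of_isSolvable_injective (f := φ.subgroupMap
    (Subgroup.closure ({c, g * d * g⁻¹} : Set G))) (fun a b hab => by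
      apply Subtype.ext
      apply hφ
      exact congrArg Subtype.val hab)

theorem APair.of_subgroup {M S : Subgroup G} {c d : M} (h : APair (S.subgroupOf M) c d) :
    APair S (c : G) (d : G) :=
  (h.of_injective M.subtype M.subtype_injective).mono (by
    rw [Subgroup.subgroupOf_map_subtype]; exact inf_le_left)

theorem APair.of_section {M S : Subgroup G} (φ : M →* H) {T : Subgroup H}
    (hT : T ≤ (S.subgroupOf M).map φ) {c d : M} (h : APair T (φ c) (φ d)) :
    APair S (c : G) (d : G) :=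
  (h.of_hom φ hT).of_subgroup

/-! ### `BPair` -/

theorem BPair.mono (h : BPair p S c d) (hST : S ≤ T) : BPair p T c d := by
  obtain ⟨g, hg, h⟩ := h
  exact ⟨g, hST hg, h⟩

theorem BPair.conj_right {s : G} (hs : s ∈ S) (h : BPair p S c (s * d * s⁻¹)) :
    BPair p S c d := by
  obtain ⟨g, hg, h⟩ := h
  refine ⟨g * s, mul_mem hg hs, ?_⟩
  have : g * s * d * (g * s)⁻¹ = g * (s * d * s⁻¹) * g⁻¹ := by group
  rwa [this]

theorem BPair.conj_left {s : G} (hs : s ∈ S) (h : BPair p S (s * c * s⁻¹) d) :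
    BPair p S c d := by
  obtain ⟨g, hg, h⟩ := h
  refine ⟨s⁻¹ * g, mul_mem (inv_mem hs) hg, fun k hk => h k ?_⟩
  have h1 : s * c * s⁻¹ * (g * d * g⁻¹)
      = s * (c * (s⁻¹ * g * d * (s⁻¹ * g)⁻¹)) * s⁻¹ := by group
  rw [h1, conj_pow, hk]
  group

theorem BPair.symm (h : BPair p S c d) : BPair p S d c := by
  obtain ⟨g, hg, h⟩ := h
  refine ⟨g⁻¹, inv_mem hg, fun k hk => h k ?_⟩
  have h1 : c * (g * d * g⁻¹)
      = g * (g⁻¹ * c * g⁻¹⁻¹) * (d * (g⁻¹ * c * g⁻¹⁻¹)) * (g * (g⁻¹ * c * g⁻¹⁻¹))⁻¹ := by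
    group
  rw [h1, conj_pow, hk]
  group

theorem BPair.inv (h : BPair p S c d) : BPair p S c⁻¹ d⁻¹ := by
  have h0 := h.symm
  obtain ⟨g, hg, h⟩ := h0
  refine ⟨g⁻¹, inv_mem hg, fun k hk => h k ?_⟩
  have h2 : d * (g * c * g⁻¹) = g * ((g⁻¹ * d⁻¹ * g⁻¹⁻¹)⁻¹ * c) * g⁻¹ := by group
  have h3 : (g⁻¹ * d⁻¹ * g⁻¹⁻¹)⁻¹ * c = (c⁻¹ * (g⁻¹ * d⁻¹ * g⁻¹⁻¹))⁻¹ := by group
  rw [h2, h3, conj_pow, inv_pow, hk]
  group

theorem BPair.of_hom (φ : G →* H) {S : Subgroup G} {T : Subgroup H} (hT : T ≤ S.map φ) {c d : G}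
    (h : BPair p T (φ c) (φ d)) : BPair p S c d := by
  obtain ⟨t, ht, h⟩ := h
  obtain ⟨g, hg, rfl⟩ := hT ht
  refine ⟨g, hg, fun k hk => h k ?_⟩
  have := congrArg φ hk
  simpa only [_root_.map_pow, _root_.map_mul, _root_.map_inv, _root_.map_one] using this

theorem BPair.of_injective (φ : G →* H) (hφ : Function.Injective φ) {S : Subgroup G} {c d : G}
    (h : BPair p S c d) : BPair p (S.map φ) (φ c) (φ d) := by
  obtain ⟨g, hg, h⟩ := h
  refine ⟨φ g, Subgroup.mem_map_of_mem φ hg, fun k hk => h k (hφ ?_)⟩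
  rw [map_one, ← hk]
  simp only [_root_.map_pow, _root_.map_mul, _root_.map_inv]

theorem BPair.of_subgroup {M S : Subgroup G} {c d : M} (h : BPair p (S.subgroupOf M) c d) :
    BPair p S (c : G) (d : G) :=
  (h.of_injective M.subtype M.subtype_injective).mono (by
    rw [Subgroup.subgroupOf_map_subtype]; exact inf_le_left)

theorem BPair.of_section {M S : Subgroup G} (φ : M →* H) {T : Subgroup H}
    (hT : T ≤ (S.subgroupOf M).map φ) {c d : M} (h : BPair p T (φ c) (φ d)) :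
    BPair p S (c : G) (d : G) :=
  (h.of_hom φ hT).of_subgroup

end defs

/-! ### The solvable Baer-Suzuki theorem -/

/-- The solvable Baer-Suzuki theorem (S3829) for one conjugacy class of elements of order `p`. -/
def RSHyp (p : ℕ) : Prop :=
  ∀ (K : Type u) [Group K] [Finite K] (x : K), orderOf x = p →
    (∀ g : K, Group.IsSolvable ↥(Subgroup.closure ({x, g * x * g⁻¹} : Set K))) →
    Group.IsSolvable ↥(Subgroup.closure {y : K | ∃ g : K, y = g * x * g⁻¹})

section RS

variable {G : Type u} [Group G] {p : ℕ}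

/-- The solvable Baer-Suzuki theorem relative to a subgroup `R` normalised by `c`. -/
theorem solvable_of_RS [Finite G] (hRS : RSHyp.{u} p) {R : Subgroup G} {c : G} (hc : orderOf c = p)
    (hcR : ∀ r ∈ R, c * r * c⁻¹ ∈ R)
    (h : ∀ r ∈ R, Group.IsSolvable ↥(Subgroup.closure ({c, r * c * r⁻¹} : Set G))) :
    Group.IsSolvable ↥(Subgroup.closure {y : G | ∃ r ∈ R, y = r * c * r⁻¹}) := by
  classical
  -- the subgroup `R ⟨c⟩`
  have hcR' : ∀ i : ℕ, ∀ r ∈ R, c ^ i * r * (c ^ i)⁻¹ ∈ R := by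
    intro i
    induction i with
    | zero => intro r hr; simpa using hr
    | succ i ih =>
      intro r hr
      have := hcR _ (ih r hr)
      have h2 : c * (c ^ i * r * (c ^ i)⁻¹) * c⁻¹ = c ^ (i + 1) * r * (c ^ (i + 1))⁻¹ := by
        rw [pow_succ']; group
      rwa [h2] at this
  have hfin : IsOfFinOrder c := isOfFinOrder_of_finite c
  have hcinv : ∀ i : ℕ, ∃ m : ℕ, (c ^ i)⁻¹ = c ^ m := by
    intro i
    have := (hfin.mem_powers_iff_mem_zpowers).2
      (Subgroup.inv_mem _ ⟨(i : ℤ), rfl⟩ : (c ^ (i : ℤ))⁻¹ ∈ Subgroup.zpowers c)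
    obtain ⟨m, hm⟩ := this
    refine ⟨m, ?_⟩
    rw [zpow_natCast] at hm
    exact hm.symm
  have hcRinv : ∀ i : ℕ, ∀ r ∈ R, (c ^ i)⁻¹ * r * c ^ i ∈ R := by
    intro i r hr
    obtain ⟨m, hm⟩ := hcinv i
    have := hcR' m r hr
    rw [← hm] at this
    simpa using this
  let K : Subgroup G :=
    { carrier := {x | ∃ r ∈ R, ∃ i : ℕ, x = r * c ^ i}
      one_mem' := ⟨1, one_mem _, 0, by simp⟩
      mul_mem' := by
        rintro _ _ ⟨r, hr, i, rfl⟩ ⟨s, hs, j, rfl⟩
        refine ⟨r * (c ^ i * s * (c ^ i)⁻¹), mul_mem hr (hcR' i s hs), i + j, ?_⟩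
        rw [pow_add]; group
      inv_mem' := by
        rintro _ ⟨r, hr, i, rfl⟩
        obtain ⟨m, hm⟩ := hcinv i
        refine ⟨(c ^ i)⁻¹ * r⁻¹ * c ^ i, hcRinv i _ (inv_mem hr), m, ?_⟩
        rw [← hm]; group }
  have hcK : c ∈ K := ⟨1, one_mem _, 1, by simp⟩
  have hRK : R ≤ K := fun r hr => ⟨r, hr, 0, by simp⟩
  let c' : K := ⟨c, hcK⟩
  have hc' : orderOf c' = p := by rw [← hc]; exact (Subgroup.orderOf_mk c hcK)
  have hconj : ∀ g : K, ∃ r ∈ R, (g : G) * c * (g : G)⁻¹ = r * c * r⁻¹ := by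
    rintro ⟨_, r, hr, i, rfl⟩
    refine ⟨r, hr, ?_⟩
    have : c ^ i * c * (c ^ i)⁻¹ = c := by
      rw [← pow_succ, pow_succ']; group
    calc r * c ^ i * c * (r * c ^ i)⁻¹ = r * (c ^ i * c * (c ^ i)⁻¹) * r⁻¹ := by group
      _ = _ := by rw [this]
  have h1 := hRS K c' hc' (by
    intro g
    obtain ⟨r, hr, h2⟩ := hconj g
    have h3 := h r hr
    have h4 : (Subgroup.closure ({c', g * c' * g⁻¹} : Set K)).map K.subtype =
        Subgroup.closure ({c, r * c * r⁻¹} : Set G) := by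
      rw [closure_pair_map]
      congr 1
      rw [← h2]
      rfl
    rw [← h4] at h3
    exact Group.isSolvable_of_isSolvable_injective
      (f := ((Subgroup.closure ({c', g * c' * g⁻¹} : Set K)).equivMapOfInjective _
        K.subtype_injective).toMonoidHom) (MulEquiv.injective _))
  have h2 : (Subgroup.closure {y : K | ∃ g : K, y = g * c' * g⁻¹}).map K.subtype =
      Subgroup.closure {y : G | ∃ r ∈ R, y = r * c * r⁻¹} := by
    rw [MonoidHom.map_closure]
    congr 1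
    ext y
    constructor
    · rintro ⟨_, ⟨g, rfl⟩, rfl⟩
      obtain ⟨r, hr, h3⟩ := hconj g
      exact ⟨r, hr, h3⟩
    · rintro ⟨r, hr, rfl⟩
      exact ⟨⟨r, hRK hr⟩ * c' * ⟨r, hRK hr⟩⁻¹, ⟨⟨r, hRK hr⟩, rfl⟩, rfl⟩
  rw [← h2]
  exact Group.isSolvable_of_surjective (f := K.subtype.subgroupMap _)
    (K.subtype.subgroupMap_surjective _)

/-- `⟨c, x h⟩` is solvable iff `⟨c, x⟩` is, if `h` commutes with `c` and `x`. -/
theorem isSolvable_closure_of_mul {c x h : G} (hch : Commute c h) (hxh : Commute x h)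
    (hs : Group.IsSolvable ↥(Subgroup.closure ({c, x * h} : Set G))) :
    Group.IsSolvable ↥(Subgroup.closure ({c, x} : Set G)) := by
  have hcomm : ∀ (a : ↥(Subgroup.closure ({c, x * h} : Set G))) (b : ↥(Subgroup.zpowers h)),
      Commute (a : G) (b : G) := by
    rintro ⟨a, ha⟩ ⟨b, hb⟩
    obtain ⟨i, rfl⟩ := Subgroup.mem_zpowers_iff.1 hb
    refine Commute.zpow_right ?_ i
    change Commute a h
    induction ha using Subgroup.closure_induction with
    | mem a ha =>
      rcases ha with rfl | ha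
      · exact hch
      · rw [Set.mem_singleton_iff] at ha
        rw [ha]
        exact hxh.mul_left (Commute.refl h)
    | one => exact Commute.one_left h
    | mul a b _ _ ha hb => exact ha.mul_left hb
    | inv a _ ha => exact ha.inv_left
  let f : ↥(Subgroup.closure ({c, x * h} : Set G)) × ↥(Subgroup.zpowers h) →* G :=
    MonoidHom.noncommCoprod (Subgroup.closure ({c, x * h} : Set G)).subtype
      (Subgroup.zpowers h).subtype hcomm
  have h2 : Group.IsSolvable ↥f.range := by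
    have h3 : Group.IsSolvable ↥(Subgroup.zpowers h) := by
      have : IsMulCommutative ↥(Subgroup.zpowers h) := inferInstance
      exact Group.isSolvable_of_comm fun a b => this.is_comm.comm a b
    have h4 : Group.IsSolvable (↥(Subgroup.closure ({c, x * h} : Set G)) × ↥(Subgroup.zpowers h)) :=
      inferInstance
    exact Group.isSolvable_of_surjective (f := f.rangeRestrict) f.rangeRestrict_surjective
  refine isSolvable_of_le ?_ h2
  rw [Subgroup.closure_le]
  rintro y hy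
  rcases hy with rfl | hy
  · refine ⟨(⟨y, Subgroup.subset_closure (by simp)⟩, 1), ?_⟩
    change y * 1 = y
    rw [mul_one]
  · rw [Set.mem_singleton_iff] at hy
    refine ⟨(⟨x * h, Subgroup.subset_closure (by simp)⟩, ⟨h⁻¹, inv_mem (Subgroup.mem_zpowers h)⟩), ?_⟩
    change x * h * h⁻¹ = y
    rw [hy, mul_inv_cancel_right]

/-- **Aligned elements, part (a).** -/
theorem APair.of_aligned [Finite G] (hRS : RSHyp.{u} p) {S R : Subgroup G} (hRS' : R ≤ S) {c d : G}
    (hc : orderOf c = p) (hcR : ∀ r ∈ R, c * r * c⁻¹ ∈ R) {s : G} (hs : s ∈ S) (j : ℤ) {h : G}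
    (hch : Commute c h) (hRh : ∀ r ∈ R, Commute r h) (hd : (s * d * s⁻¹) ^ j = c * h)
    (hns : ¬ Group.IsSolvable ↥(Subgroup.closure {y : G | ∃ r ∈ R, y = r * c * r⁻¹})) :
    APair S c d := by
  by_contra hcon
  apply hns
  refine solvable_of_RS hRS hc hcR ?_
  intro r hr
  refine isSolvable_closure_of_mul (h := h) hch
    (((hRh r hr).mul_left hch).mul_left (hRh r hr).inv_left) ?_
  by_contra hcon'
  apply hcon
  refine APair.of_zpow 1 j ⟨r * s, mul_mem (hRS' hr) hs, ?_⟩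
  have h1 : r * s * d ^ j * (r * s)⁻¹ = r * c * r⁻¹ * h := by
    have h2 : r * s * d ^ j * (r * s)⁻¹ = r * (s * d ^ j * s⁻¹) * r⁻¹ := by group
    rw [h2, ← conj_zpow, hd]
    calc r * (c * h) * r⁻¹ = r * c * (h * r⁻¹) := by group
      _ = r * c * (r⁻¹ * h) := by rw [((hRh r hr).inv_left).eq]
      _ = _ := by group
  rw [zpow_one, h1]
  exact hcon'

/-- **Aligned elements, part (b).** -/
theorem BPair.of_aligned [Finite G] (hAA : AAHyp.{u} p) {S R : Subgroup G} (hRS : R ≤ S) {c d : G}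
    (hc : orderOf c = p) (hcR : ∀ r ∈ R, c * r * c⁻¹ ∈ R) {s : G} (hs : s ∈ S) {h : G}
    (hch : Commute c h) (hRh : ∀ r ∈ R, Commute r h) (hh : ∃ k : ℕ, h ^ p ^ k = 1)
    (hd : s * d * s⁻¹ = c * h)
    (hns : ¬ Group.IsSolvable ↥(Subgroup.closure {y : G | ∃ r ∈ R, y = r * c * r⁻¹})) :
    BPair p S c d := by
  by_contra hcon
  unfold BPair at hcon
  push Not at hcon
  apply hns
  refine solvable_of_AA hAA hc hcR ?_
  intro r hr
  obtain ⟨k, hk⟩ := hcon (r * s) (mul_mem (hRS hr) hs)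
  obtain ⟨m, hm⟩ := hh
  refine ⟨k + m, ?_⟩
  have h1 : r * s * d * (r * s)⁻¹ = r * c * r⁻¹ * h := by
    have h2 : r * s * d * (r * s)⁻¹ = r * (s * d * s⁻¹) * r⁻¹ := by group
    rw [h2, hd]
    calc r * (c * h) * r⁻¹ = r * c * (h * r⁻¹) := by group
      _ = r * c * (r⁻¹ * h) := by rw [((hRh r hr).inv_left).eq]
      _ = _ := by group
  rw [h1] at hk
  have h4 : Commute (c * (r * c * r⁻¹)) h :=
    hch.mul_left (((hRh r hr).mul_left hch).mul_left (hRh r hr).inv_left)
  have h5 : c * (r * c * r⁻¹ * h) = c * (r * c * r⁻¹) * h := by group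
  rw [h5, h4.mul_pow] at hk
  have h6 : (c * (r * c * r⁻¹)) ^ p ^ k = (h ^ p ^ k)⁻¹ := eq_inv_of_mul_eq_one_left hk
  rw [pow_add, pow_mul, h6, inv_pow, ← pow_mul, mul_comm, pow_mul, hm, one_pow, inv_one]

/-- **Aligned elements.** -/
theorem spair_of_aligned [Finite G] (hAA : AAHyp.{u} p) (hRS : RSHyp.{u} p) (hp : p.Prime)
    {S R : Subgroup G} (hRS' : R ≤ S) {c d : G}
    (hc : orderOf c = p) (hcR : ∀ r ∈ R, c * r * c⁻¹ ∈ R) {s : G} (hs : s ∈ S) {h : G}
    (hch : Commute c h) (hRh : ∀ r ∈ R, Commute r h) (hh : ∃ k : ℕ, h ^ p ^ k = 1)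
    (hd : s * d * s⁻¹ = c * h)
    (hns : ¬ Group.IsSolvable ↥(Subgroup.closure {y : G | ∃ r ∈ R, y = r * c * r⁻¹})) :
    SPair p S c d :=
  SPair.mk' hp (APair.of_aligned hRS hRS' hc hcR hs 1 hch hRh (by rw [zpow_one, hd]) hns)
    (BPair.of_aligned hAA hRS' hc hcR hs hch hRh hh hd hns)

end RS

end Cfsg.Agent.H132.S5
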